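import Groth.Agent.R1Push.Leray
import Groth.Agent.QCoh.RpushModel

/-!
# `H¹` of a scheme over a base with vanishing `H¹`
-/

set_option autoImplicit false
set_option linter.style.haveILetI false
set_option linter.unusedSectionVars false
set_option backward.isDefEq.respectTransparency false
set_option backward.isDefEq.respectTransparency.types false
set_option maxHeartbeats 1000000

universe u

open CategoryTheory CategoryTheory.Limits AlgebraicGeometry TopologicalSpace Opposite

noncomputable section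

namespace Groth.Agent.GRDual

open Groth.Agent Groth.Agent.QCoh Groth.Agent.LerayOneDegree Groth.Agent.R1Push

variable {W Z : Scheme.{u}} (g : W ⟶ Z) [HasInjectiveResolutions W.Modules] {A : Type u} [CommRing A]
  (ρ : A →+* Coh.Γtop Z)

/-- Over a base without `H¹` of the direct image: `H¹` is the global sections of `R¹`. -/
theorem nonempty_H1_equiv (M : W.Modules) (h1 : Subsingleton (Coh.HH Z ((Scheme.Modules.pushforward g).obj M) 1))
    (h2 : Subsingleton (Coh.HH Z ((Scheme.Modules.pushforward g).obj M) 2)) :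
    letI := modHH (g.appTop.hom.comp ρ) M 1
    letI := modHH ρ ((Coh.Rpush g 1).obj M) 0
    Nonempty (Coh.HH Z ((Coh.Rpush g 1).obj M) 0 ≃ₗ[A] Coh.HH W M 1) := by
  haveI := QCoh.preservesFiniteLimits_push g
  let P₀ := LerayCorner.Z g M 0
  let B := LerayCorner.B g M 0
  let P₁ := LerayCorner.Z g M 1
  let incl : B ⟶ P₁ := LerayCorner.incl g M 0
  have hS₁ := LerayCorner.shortExact_one g M 0
  have hS₂ := LerayCorner.shortExact_two g M 0
  obtain ⟨e⟩ := LerayCorner.nonempty_cokernel_incl g M 0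
  letI := modHH ρ ((Scheme.Modules.pushforward g).obj M) 1
  letI := modHH (g.appTop.hom.comp ρ) M 1
  letI := modHH ρ ((Coh.Rpush g 1).obj M) 0
  letI := secModule ρ B ⊤
  letI := secModule ρ P₁ ⊤
  letI := secModule ρ ((Coh.Rpush g 1).obj M) ⊤
  letI := secModule (g.appTop.hom.comp ρ) (godQ M 1) ⊤
  letI := modHH ρ B 0
  obtain ⟨a, ha, hker⟩ := exists_classMap (g.appTop.hom.comp ρ) M 1
  let θ : Γ(P₁, ⊤) →ₗ[A] Coh.HH W M 1 :=
    { toFun := fun z => a (show Γ(godQ M 1, ⊤) from z)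
      map_add' := fun z w => map_add a _ _
      map_smul' := fun r z => by
        refine Eq.trans (congrArg a ?_) (map_smul a r (show Γ(godQ M 1, ⊤) from z))
        show (show Γ(W, ⊤) from (g.app ⊤).hom ((Z.presheaf.map (homOfLE (le_top : (⊤ : Z.Opens) ≤ ⊤)).op).hom (ρ r))) •
            (show Γ(godQ M 1, ⊤) from z) =
          (W.presheaf.map (homOfLE (le_top : (⊤ : W.Opens) ≤ ⊤)).op).hom (g.appTop.hom (ρ r)) •
            (show Γ(godQ M 1, ⊤) from z)
        rw [show (homOfLE (le_top : (⊤ : W.Opens) ≤ ⊤)).op = 𝟙 (op (⊤ : W.Opens)) from rfl, W.presheaf.map_id,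
          show (homOfLE (le_top : (⊤ : Z.Opens) ≤ ⊤)).op = 𝟙 (op (⊤ : Z.Opens)) from rfl, Z.presheaf.map_id]
        rfl }
  let δ : Γ(B, ⊤) →ₗ[A] Coh.HH Z ((Scheme.Modules.pushforward g).obj M) 1 :=
    (connLin ρ hS₁ 0).comp (secH ρ B).toLinearMap
  have hB1 : Subsingleton (Coh.HH Z B 1) :=
    LerayCorner.subsingleton_HH_X₃ hS₁ 1 (LerayCorner.subsingleton_HH_God_push g M 0 0) h2
  have hsurj : Function.Surjective ((cokernel.π incl).app ⊤) := QCoh.app_top_surjective_of_HH_one hS₂ hB1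
  have hinj : Function.Injective (incl.app ⊤) := app_f_injective hS₂ ⊤
  have hα : ∀ b : Γ((Scheme.Modules.pushforward g).obj (God (godQ M 0)), ⊤),
      incl.app ⊤ ((cokernel.π ((Scheme.Modules.pushforward g).map (toGod (godQ M 0)))).app ⊤ b) =
        (godπ M 0).app ⊤ b := fun b =>
    congr($(congrArg (fun φ => Scheme.Modules.Hom.app φ ⊤)
      (cokernel.π_desc ((Scheme.Modules.pushforward g).map (toGod (godQ M 0)))
        ((Scheme.Modules.pushforward g).map (godπ M 0)) (LerayCorner.comp_eq_zero g M 0))) b)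
  have hδ0 : ∀ b : Γ(B, ⊤), δ b = 0 ↔
      ∃ c, (cokernel.π ((Scheme.Modules.pushforward g).map (toGod (godQ M 0)))).app ⊤ c = b := by
    intro b
    let T₂ := Coh.toAb ((Scheme.Modules.pushforward g).obj (God (godQ M 0)))
    refine (Ab.connecting_eq_zero_iff (X := Z.toPresheafedSpace.carrier) (toAb_shortExact hS₁) 0 _).trans ⟨?_, ?_⟩
    · rintro ⟨y, hy⟩
      refine ⟨Sheaf.H.equiv₀ T₂ isTerminalTop y, ?_⟩
      refine (Sheaf.H.equiv₀_naturality isTerminalTop ((ShortComplex.mk _ _ (cokernel.condition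
        ((Scheme.Modules.pushforward g).map (toGod (godQ M 0))))).map (toAbFunctor Z)).g y).trans ?_
      exact (congrArg (Sheaf.H.equiv₀ (Coh.toAb B) isTerminalTop) hy).trans
        ((Sheaf.H.equiv₀ (Coh.toAb B) isTerminalTop).apply_symm_apply b)
    · rintro ⟨c, hc⟩
      refine ⟨(Sheaf.H.equiv₀ T₂ isTerminalTop).symm c, (Sheaf.H.equiv₀ (Coh.toAb B) isTerminalTop).injective ?_⟩
      refine (Sheaf.H.equiv₀_naturality isTerminalTop ((ShortComplex.mk _ _ (cokernel.condition
        ((Scheme.Modules.pushforward g).map (toGod (godQ M 0))))).map (toAbFunctor Z)).g _).symm.trans ?_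
      refine (congrArg _ ((Sheaf.H.equiv₀ T₂ isTerminalTop).apply_symm_apply c)).trans ?_
      exact hc.trans ((Sheaf.H.equiv₀ (Coh.toAb B) isTerminalTop).apply_symm_apply b).symm
  let p : Γ(P₁, ⊤) →ₗ[A] Coh.HH Z ((Coh.Rpush g 1).obj M) 0 :=
    (secH ρ ((Coh.Rpush g 1).obj M)).toLinearMap.comp (secLin ρ (cokernel.π incl ≫ e.hom))
  suffices key : (∀ n, p n = 0 ↔ ∃ b, secLin ρ incl b = n) ∧ (∀ b, θ (secLin ρ incl b) = 0 ↔ δ b = 0) ∧
      ∀ n, θ n = 0 → ∃ b, secLin ρ incl b = n by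
    refine QCoh.nonempty_linearEquiv_of_surjective p θ
      ((secH ρ _).surjective.comp ((ConcreteCategory.bijective_of_isIso (e.hom.app ⊤)).2.comp hsurj)) ha
      fun n => ⟨fun hn => ?_, fun hn => (key.1 n).2 (key.2.2 n hn)⟩
    obtain ⟨b, rfl⟩ := (key.1 n).1 hn
    exact (key.2.1 b).2 (h1.elim _ _)
  refine ⟨fun n => ?_, fun b => ?_, fun n hn => ?_⟩
  · refine ((secH ρ _).map_eq_zero_iff).trans ?_
    constructor
    · intro hn
      refine exists_app_f_eq hS₂ ⊤ n ((ConcreteCategory.bijective_of_isIso (e.hom.app ⊤)).1 ?_)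
      exact hn.trans (map_zero _).symm
    · rintro ⟨b, rfl⟩
      show e.hom.app ⊤ ((cokernel.π incl).app ⊤ (incl.app ⊤ b)) = 0
      rw [show (cokernel.π incl).app ⊤ (incl.app ⊤ b) = 0 from
        app_g_f (S := ShortComplex.mk incl (cokernel.π incl) (cokernel.condition _)) ⊤ b]
      exact map_zero _
  · refine ((hker _).trans ?_).trans (hδ0 b).symm
    constructor
    · rintro ⟨c, hc⟩
      exact ⟨c, hinj ((hα c).trans hc)⟩
    · rintro ⟨c, rfl⟩
      exact ⟨c, (hα c).symm⟩
  · obtain ⟨c, hc⟩ := (hker _).1 hn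
    exact ⟨_, (hα c).trans hc⟩

end Groth.Agent.GRDual
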