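import Groth.Agent.GRDual.Bridge
import Groth.Agent.GRDual.H1
import Groth.Agent.QCoh.CechStd

/-!
# `H¹` of the structure sheaf and the model
-/

set_option autoImplicit false
set_option linter.style.haveILetI false
set_option linter.unusedSectionVars false
set_option backward.isDefEq.respectTransparency false
set_option backward.isDefEq.respectTransparency.types false
set_option maxHeartbeats 800000

universe u

open CategoryTheory CategoryTheory.Limits AlgebraicGeometry TopologicalSpace Opposite

attribute [local instance] HasDerivedCategory.standard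

noncomputable section

namespace Groth.Agent.GRDual

open Groth.Agent

/-- Sections of a tilde with the scalars of the functions. -/
theorem nonempty_secModule_tilde {R : CommRingCat.{u}} {M : (Spec R).Modules} (N : ModuleCat.{u} R)
    (e : M ≅ (tilde.functor R).obj N) :
    letI := QCoh.secModule (Scheme.ΓSpecIso R).inv.hom M ⊤
    Nonempty (N ≃ₗ[R] Γ(M, ⊤)) := by
  letI := QCoh.secModule (Scheme.ΓSpecIso R).inv.hom M ⊤
  let l := ((asIso (tilde.toTildeΓNatIso.hom.app N)) ≪≫ moduleSpecΓFunctor.mapIso e.symm).toLinearEquiv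
  exact ⟨(l.toAddEquiv.trans (AddEquiv.refl _)).toLinearEquiv fun r x => l.map_smul r x⟩

variable {A : Type u} [CommRing A] {X : Scheme.{u}} (f : X ⟶ Spec (CommRingCat.of A)) [IsProper f]
  [PreservesFiniteLimits (tilde.functor (CommRingCat.of A))] [DCoh.HasRpush f]

/-- `H¹(X, O)` is the first cohomology of the model. -/
theorem nonempty_H1_model {R₀ : Dual.D A} (e : (DCoh.tildeD (CommRingCat.of A)).obj R₀ ≅ RO f) :
    letI := QCoh.modHH (Coh.toGlobal f) (Coh.structureModule X) 1
    Nonempty (Coh.HH X (Coh.structureModule X) 1 ≃ₗ[A] Dual.HD A R₀ 1) := by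
  letI := QCoh.modHH (Coh.toGlobal f) (Coh.structureModule X) 1
  haveI := KFlatLib.hasInjectiveResolutions_modules (X := X)
  let S := Spec (CommRingCat.of A)
  let ρ : A →+* Coh.Γtop S := (Scheme.ΓSpecIso (CommRingCat.of A)).inv.hom
  obtain ⟨g1⟩ := KFlatLib.nonempty_hd_rpush_single f (Coh.structureModule X) 1
  haveI := SpObjSS.enoughInjectives_of_hasInjectiveResolutions (C := X.Modules)
  haveI := QCoh.preservesFiniteLimits_push f
  have hq : Coh.IsQCoh ((Scheme.Modules.pushforward f).obj (Coh.structureModule X)) :=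
    KFlatLib.isQCoh_of_iso ((Scheme.Modules.pushforward f).rightDerivedZeroIsoSelf.app (Coh.structureModule X))
      (QCoh.isQCoh_Rpush f (QCoh.isQCoh_structureModule (X := X)) 0)
  obtain ⟨l1⟩ := nonempty_H1_equiv f ρ (Coh.structureModule X) (QCoh.subsingleton_HH_of_isAffine hq 0)
    (QCoh.subsingleton_HH_of_isAffine hq 1)
  obtain ⟨l2⟩ := nonempty_secModule_tilde (R := CommRingCat.of A) ((hFun A 1).obj R₀) (g1.symm ≪≫ (hdIso e 1).symm)
  letI := QCoh.secModule ρ ((Coh.Rpush f 1).obj (Coh.structureModule X)) ⊤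
  letI := QCoh.modHH ρ ((Coh.Rpush f 1).obj (Coh.structureModule X)) 0
  exact ⟨l1.symm.trans ((QCoh.secH ρ _).symm.trans l2.symm)⟩

end Groth.Agent.GRDual
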