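import Groth.Agent.GRDual.Bridge
import Groth.Agent.GRDual.H1Model
import Groth.Agent.CurveDual.Main
import Groth.Agent.Lib.DerivedProj

/-!
# Duality for modifications of normal surface germs
-/

set_option autoImplicit false
set_option linter.style.haveILetI false
set_option linter.unusedSectionVars false
set_option backward.isDefEq.respectTransparency false
set_option backward.isDefEq.respectTransparency.types false
set_option maxHeartbeats 800000

universe u

open CategoryTheory CategoryTheory.Limits AlgebraicGeometry TopologicalSpace IsLocalRing Opposite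
open Pretriangulated

attribute [local instance] HasDerivedCategory.standard

noncomputable section

namespace Groth.Agent.GRDual

open Groth.Agent

/-- The bottom cohomology of an object in nonnegative degrees. -/
theorem exists_trunc {X : Scheme.{u}} (K : DCoh.D X) [K.IsGE 0] :
    ∃ (B : DCoh.D X) (ι : DCoh.inD X (DCoh.HD K 0) ⟶ K) (b : K ⟶ B) (d : B ⟶ (DCoh.inD X (DCoh.HD K 0))⟦(1 : ℤ)⟧),
      Triangle.mk ι b d ∈ distTriang (DCoh.D X) ∧ B.IsGE 1 := by
  let H := DerivedCategory.homologyFunctor X.Modules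
  obtain ⟨P, B, hP, hB, a, b, d, hT⟩ := DerivedCategory.TStructure.t.exists_triangle K 0 1 (by omega)
  haveI : P.IsLE 0 := ⟨hP⟩
  haveI : B.IsGE 1 := ⟨hB⟩
  haveI : P.IsGE 0 := (DerivedCategory.isGE_iff _ _).2 fun i hi =>
    (DerivedCategory.HomologySequence.exact₁ _ hT (i - 1) i (by omega)).isZero_of_both_zeros
      ((DerivedCategory.isZero_of_isGE B 1 (i - 1) (by omega)).eq_of_src _ _)
      ((DerivedCategory.isZero_of_isGE K 0 i hi).eq_of_tgt _ _)
  haveI : Mono ((H 0).map a) := (DerivedCategory.HomologySequence.mono_homologyMap_mor₁_iff _ hT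
    (-1) 0 (by omega)).2 ((DerivedCategory.isZero_of_isGE B 1 (-1) (by omega)).eq_of_src _ _)
  haveI : Epi ((H 0).map a) := (DerivedCategory.HomologySequence.exact₂ _ hT 0).epi_f
    ((DerivedCategory.isZero_of_isGE B 1 0 (by omega)).eq_of_tgt _ _)
  haveI : IsIso ((H 0).map a) := isIso_of_mono_of_epi _
  obtain ⟨V, ⟨e⟩⟩ := DerivedCategory.exists_iso_singleFunctor_obj_of_isGE_of_isLE P 0
  let eP : DCoh.inD X (DCoh.HD K 0) ≅ P :=
    (DerivedCategory.singleFunctor X.Modules 0).mapIso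
      ((asIso ((H 0).map a)).symm ≪≫ (H 0).mapIso e ≪≫ KFlatLib.hSingle 0 V) ≪≫ e.symm
  refine ⟨B, eP.hom ≫ a, b, d ≫ eP.inv⟦(1 : ℤ)⟧', ?_, ‹_›⟩
  refine isomorphic_distinguished _ hT _ (Triangle.isoMk _ _ eP (Iso.refl _) (Iso.refl _) ?_ ?_ ?_)
  · show (eP.hom ≫ a) ≫ 𝟙 _ = eP.hom ≫ a
    rw [Category.comp_id]
  · show b ≫ 𝟙 _ = 𝟙 _ ≫ b
    rw [Category.comp_id, Category.id_comp]
  · show (d ≫ eP.inv⟦(1 : ℤ)⟧') ≫ eP.hom⟦(1 : ℤ)⟧' = 𝟙 _ ≫ d
    rw [Category.assoc, ← Functor.map_comp, eP.inv_hom_id, CategoryTheory.Functor.map_id, Category.comp_id,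
      Category.id_comp]

/-- Degree zero classes of a bounded below object are those of its direct image. -/
theorem bijective_beta_of_GE {X Y : Scheme.{u}} (f : X ⟶ Y) [DCoh.HasRpush f] (K : DCoh.D X) [K.IsGE 0] :
    Function.Bijective (beta f (K := K)) := by
  haveI := KFlatLib.BCLoc.rpush_additive f
  obtain ⟨B, ι, b, d, hT, hB⟩ := exists_trunc K
  haveI := hB
  obtain ⟨c, hc⟩ := KFlatLib.exists_rpush_triangle f _ hT
  obtain ⟨c', hc'⟩ := KFlatLib.exists_rpush_triangle f _ (inv_rot_of_distTriang _ hT)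
  haveI : ((DCoh.Rpush f).obj B).IsGE 1 := KFlatLib.isGE_rpush f B 1
  refine ⟨(injective_iff_map_eq_zero (AddMonoidHom.mk' _ (beta_add f))).2 fun x hx => ?_, fun y => ?_⟩
  · replace hx : beta f x = 0 := hx
    obtain ⟨x', rfl⟩ := Triangle.coyoneda_exact₂ _ hT x
      (DerivedCategory.TStructure.t.zero_of_isLE_of_isGE _ 0 1 (by omega) inferInstance hB)
    rw [beta_comp] at hx
    obtain ⟨z, hz⟩ := Triangle.coyoneda_exact₂ _ hc' (beta f x') hx
    haveI : ((Triangle.mk ι b d).invRotate.obj₁).IsGE 1 := by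
      haveI := DerivedCategory.TStructure.t.isGE_shift B 1 (-1) 2 (by omega)
      exact DerivedCategory.TStructure.t.isGE_of_ge (B⟦(-1 : ℤ)⟧) 1 2 (by omega)
    haveI := KFlatLib.isGE_rpush f (Triangle.mk ι b d).invRotate.obj₁ 1
    have hz0 : z = 0 := DerivedCategory.TStructure.t.zero_of_isLE_of_isGE z 0 1 (by omega) inferInstance
      ‹DerivedCategory.IsGE ((DCoh.Rpush f).obj (Triangle.mk ι b d).invRotate.obj₁) 1›
    have hx' : x' = 0 := (bijective_beta₀ f (DCoh.HD K 0)).1 (by rw [hz, hz0, zero_comp, beta_zero])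
    rw [hx', zero_comp]
  · obtain ⟨y', hy'⟩ := Triangle.coyoneda_exact₂ _ hc y
      (DerivedCategory.TStructure.t.zero_of_isLE_of_isGE _ 0 1 (by omega) inferInstance
        ‹DerivedCategory.IsGE ((DCoh.Rpush f).obj B) 1›)
    obtain ⟨x, rfl⟩ := (bijective_beta₀ f (DCoh.HD K 0)).2 y'
    exact ⟨x ≫ ι, (beta_comp f x ι).trans hy'.symm⟩

/-- Scalars act on global sections through the functions. -/
theorem one_tilde_smul {R : CommRingCat.{u}} (c : R) {M : (Spec R).Modules} (g : Coh.structureModule (Spec R) ⟶ M) :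
    InvX.one (show Coh.structureModule (Spec R) ⟶ M from (tilde.functor R).map (c • 𝟙 (ModuleCat.of R R)) ≫ g) =
      ((Scheme.ΓSpecIso R).inv.hom c) • InvX.one g := by
  have h1 : InvX.one (L := Coh.structureModule (Spec R))
      (show Coh.structureModule (Spec R) ⟶ Coh.structureModule (Spec R) from
        (tilde.functor R).map (c • 𝟙 (ModuleCat.of R R))) =
      (show Γ(Coh.structureModule (Spec R), ⊤) from (Scheme.ΓSpecIso R).inv.hom c) := by
    have hto : ∀ r : R, (tilde.toOpen (ModuleCat.of R R) ⊤).hom r =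
        (show Γ(Coh.structureModule (Spec R), ⊤) from (Scheme.ΓSpecIso R).inv.hom r) := fun r =>
      Subtype.ext (funext fun _ => rfl)
    have h : ((tilde.functor R).map (c • 𝟙 (ModuleCat.of R R))).app ⊤
        ((tilde.toOpen (ModuleCat.of R R) ⊤).hom (1 : R)) = (tilde.toOpen (ModuleCat.of R R) ⊤).hom (c • (1 : R)) :=
      congr($(tilde.toOpen_map_app (c • 𝟙 (ModuleCat.of R R)) ⊤).hom (1 : R))
    rw [hto, hto, map_one, smul_eq_mul, mul_one] at h
    exact h
  refine (AmpleVan.one_comp (show Coh.structureModule (Spec R) ⟶ Coh.structureModule (Spec R) from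
    (tilde.functor R).map (c • 𝟙 (ModuleCat.of R R))) g).trans ?_
  rw [h1]
  refine (InvX.app_eq_smul g _).trans ?_
  rw [AModX.res_self]

variable {A : Type u} [CommRing A] [IsDomain A] [IsLocalRing A] [IsNoetherianRing A] [IsIntegrallyClosed A]
  {X : Scheme.{u}} [IsIntegral X] (f : X ⟶ Spec (CommRingCat.of A)) [IsProper f]
  [PreservesFiniteLimits (tilde.functor (CommRingCat.of A))] [DCoh.HasRpush f]
  (hdim : ringKrullDim A = 2)
  (hbir : ∃ U : (Spec (CommRingCat.of A)).Opens, (U : Set (Spec (CommRingCat.of A))).Nonempty ∧ IsIso (f ∣_ U))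
  (hXn : Pi1.IsNormalScheme X)
  {ωA : Type u} [AddCommGroup ωA] [Module A ωA] (hω : Dual.IsDualizing A (Dual.inD A ωA))
  (h : DCoh.RpushPreservesQCoh f) [DCoh.HasShriek f h] (WA : DCoh.DQCoh (Spec (CommRingCat.of A)))
  (eW : WA.obj ≅ (DCoh.tildeD (CommRingCat.of A)).obj (Dual.inD A ωA))

variable (A) in
/-- The structure sheaf of the spectrum. -/
abbrev OS : (Spec (CommRingCat.of A)).Modules := Coh.structureModule (Spec (CommRingCat.of A))

variable (A) in
/-- The structure sheaf as a tilde. -/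
def eT : (DCoh.tildeD (CommRingCat.of A)).obj (Dual.inD A A) ≅ DCoh.inD (Spec (CommRingCat.of A)) (OS A) :=
  ((tilde.functor (CommRingCat.of A)).mapDerivedCategorySingleFunctor 0).app (ModuleCat.of A A)

include hω in
theorem smul_eq_zero_omega (r : A) (m : ωA) (hr : r ≠ 0) (hm : r • m = 0) : m = 0 := by
  obtain ⟨-, hT⟩ := KExact.bottom_hasSk_two_and_torsionFree hω 0
  let l := (KFlatLib.hSingle 0 (ModuleCat.of A ωA)).toLinearEquiv
  refine l.symm.injective ((hT inferInstance r (l.symm m) hr ?_).trans (map_zero _).symm)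
  rw [← map_smul, hm, map_zero]

include eW hω hdim hbir in
theorem isGE_K : (DCoh.dualizingCx f h WA).IsGE 0 :=
  isGE_dualizingCx f h WA hdim.le hbir (ModuleCat.of (CommRingCat.of A) ωA)
    (fun r m hr hm => smul_eq_zero_omega hω r m hr hm)
    (eW ≪≫ ((tilde.functor (CommRingCat.of A)).mapDerivedCategorySingleFunctor 0).app (ModuleCat.of A ωA))

include eW hω hdim hbir hXn in
/-- `Hom(Rf_* O, ω[1]) = 0`. -/
theorem eq_zero_RO_shift (y : RO f ⟶ WA.obj⟦(1 : ℤ)⟧) : y = 0 := by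
  obtain ⟨R₀, ⟨e⟩, hge, hle, ⟨e0⟩, hfin, -, hκ⟩ := exists_model f hdim hbir hXn
  haveI := hge
  haveI := hle
  haveI := hfin
  let F := DCoh.tildeD (CommRingCat.of A)
  let cs := (F.commShiftIso (1 : ℤ)).app (Dual.inD A ωA)
  obtain ⟨φ, hφ⟩ := (KFlatLib.tildeD_map_bijective (R := CommRingCat.of A) R₀ ((Dual.inD A ωA)⟦(1 : ℤ)⟧)).2
    (e.hom ≫ y ≫ eW.hom⟦(1 : ℤ)⟧' ≫ cs.inv)
  rw [eq_zero_hom_shift hdim hω e0 hκ φ, F.map_zero] at hφ
  rw [← cancel_epi e.hom, ← cancel_mono (eW.hom⟦(1 : ℤ)⟧' ≫ cs.inv), comp_zero, zero_comp, Category.assoc]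
  exact hφ.symm

include eW hω hdim hbir hXn in
/-- `Hom(O, f^! ω [1]) = 0`. -/
theorem eq_zero_O_shift (x : DCoh.inD X (Coh.structureModule X) ⟶ (DCoh.dualizingCx f h WA)⟦(1 : ℤ)⟧) : x = 0 := by
  let K := DCoh.dualizingCx f h WA
  let c := (shiftFunctorCompIsoId (DCoh.D X) (1 : ℤ) (-1) (by omega)).app K
  let L : DCoh.DQCoh X := ⟨(DCoh.inD X (Coh.structureModule X))⟦(-1 : ℤ)⟧,
    KFlatLib.isQCohD_shift (KFlatLib.isQCohD_inD_of_isQCoh (QCoh.isQCoh_structureModule (X := X))) (-1)⟩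
  obtain ⟨σ⟩ := Lib.DerivedProj.nonempty_rpush_shift f (-1 : ℤ)
  let s := σ.app (DCoh.inD X (Coh.structureModule X))
  let y := adjEquiv f h WA L (x⟦(-1 : ℤ)⟧' ≫ c.hom)
  let u := (shiftFunctorCompIsoId (DCoh.D (Spec (CommRingCat.of A))) (-1 : ℤ) 1 (by omega)).app (RO f)
  have hy : u.inv ≫ (s.inv ≫ y)⟦(1 : ℤ)⟧' = 0 := eq_zero_RO_shift f hdim hbir hXn hω WA eW _
  have hy0 : y = 0 := by
    refine (cancel_epi s.inv).1 ((shiftFunctor (DCoh.D (Spec (CommRingCat.of A))) (1 : ℤ)).map_injective ?_)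
    rw [comp_zero, Functor.map_zero, ← cancel_epi u.inv, comp_zero]
    exact hy
  haveI := KFlatLib.BCLoc.rpush_additive f
  have hx : x⟦(-1 : ℤ)⟧' ≫ c.hom = 0 := (adjEquiv f h WA L).injective (hy0.trans (by
    rw [adjEquiv_trace, Functor.map_zero, zero_comp]))
  refine (shiftFunctor (DCoh.D X) (-1 : ℤ)).map_injective ((cancel_mono c.hom).1 ?_)
  rw [Functor.map_zero, zero_comp]
  exact hx

include eW hω hdim hbir hXn in
/-- Grauert–Riemenschneider vanishing. -/
theorem subsingleton_H1 : Subsingleton (Coh.HH X (DCoh.HD (DCoh.dualizingCx f h WA) 0) 1) := by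
  haveI : HasExt.{u} X.Modules := IsGrothendieckAbelian.hasExt _
  haveI := isGE_K f hdim hbir hω h WA eW
  obtain ⟨B, ι, b, d, hT, hB⟩ := exists_trunc (DCoh.dualizingCx f h WA)
  haveI := hB
  haveI : Subsingleton (DCoh.inD X (Coh.structureModule X) ⟶
      (DCoh.inD X (DCoh.HD (DCoh.dualizingCx f h WA) 0))⟦(1 : ℤ)⟧) := subsingleton_of_forall_eq 0 fun x => by
    obtain ⟨g, hg⟩ := Triangle.coyoneda_exact₁ _ hT x (eq_zero_O_shift f hdim hbir hXn hω h WA eW _)
    rw [hg, show g = 0 from DerivedCategory.TStructure.t.zero_of_isLE_of_isGE g 0 1 (by omega) inferInstance hB,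
      zero_comp]
  exact (CurveDual.sigma (DCoh.HD (DCoh.dualizingCx f h WA) 0)).subsingleton

/-- Maps out of the ring are multiples of one inducing an isomorphism in degree zero. -/
theorem exists_smul_eq {R₀ : Dual.D A} (a : Dual.inD A A ⟶ R₀) [IsIso ((hFun A 0).map a)]
    (v : Dual.inD A A ⟶ R₀) : ∃ c : A, v = c • a := by
  let F := DerivedCategory.singleFunctor (ModuleCat.{u} A) 0
  let P := ModuleCat.of A A
  let g : P ⟶ P := KFlatLib.psiC 0 P R₀ v ≫ inv ((hFun A 0).map a) ≫ (KFlatLib.hSingle 0 P).hom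
  refine ⟨g.hom (1 : A), (KFlatLib.bijective_psiC_of_projective (P := P) 0 R₀).1 ?_⟩
  have hg : F.map g ≫ a = g.hom (1 : A) • a := by
    have h1 : g = g.hom (1 : A) • 𝟙 P := ModuleCat.hom_ext (LinearMap.ext_ring (by
      show g.hom (1 : A) = g.hom (1 : A) • (1 : A)
      rw [smul_eq_mul, mul_one]))
    conv_lhs => rw [h1, F.map_smul, F.map_id, Linear.smul_comp]
    exact congrArg (g.hom (1 : A) • ·) (Category.id_comp a)
  rw [← hg, KFlatLib.psiC_single_map]
  simp only [g, Category.assoc, KFlatLib.psiC, Iso.hom_inv_id_assoc, IsIso.inv_hom_id, Category.comp_id]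

/-- Endomorphisms of the structure sheaf commute. -/
theorem comp_comm_OS (g k : OS A ⟶ OS A) : g ≫ k = k ≫ g := by
  let T := tilde.fullyFaithfulFunctor (R := CommRingCat.of A)
  obtain ⟨g', rfl⟩ := T.map_surjective (X := ModuleCat.of (CommRingCat.of A) A) (Y := ModuleCat.of (CommRingCat.of A) A) g
  obtain ⟨k', rfl⟩ := T.map_surjective (X := ModuleCat.of (CommRingCat.of A) A) (Y := ModuleCat.of (CommRingCat.of A) A) k
  erw [← Functor.map_comp, ← Functor.map_comp]
  refine congrArg _ (ModuleCat.hom_ext (LinearMap.ext_ring ?_))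
  show k'.hom (g'.hom (1 : A)) = g'.hom (k'.hom (1 : A))
  conv_lhs => rw [← mul_one (g'.hom (1 : A)), ← smul_eq_mul, map_smul, smul_eq_mul]
  conv_rhs => rw [← mul_one (k'.hom (1 : A)), ← smul_eq_mul, map_smul, smul_eq_mul]
  exact mul_comm _ _

include hdim hbir hXn in
/-- Without `H¹` the unit is an isomorphism. -/
theorem isIso_eta (hH : Subsingleton (Coh.HH X (Coh.structureModule X) 1)) : IsIso (eta f) := by
  haveI := KFlatLib.hasInjectiveResolutions_modules (X := X)
  obtain ⟨R₀, ⟨e⟩, hge, hle, ⟨e0⟩, -, -, -⟩ := exists_model f hdim hbir hXn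
  haveI := hge
  haveI := hle
  obtain ⟨a, q, δ, hT, -⟩ := exists_triangle_model e0
  haveI hz : IsIso (a⟦(1 : ℤ)⟧') := by
    refine (Triangle.isZero₃_iff_isIso₁ _ hT).1 ?_
    refine (DerivedCategory.singleFunctor (ModuleCat.{u} A) 0).map_isZero ?_
    show IsZero ((hFun A 1).obj R₀)
    obtain ⟨l⟩ := nonempty_H1_model f e
    haveI : Subsingleton ((hFun A 1).obj R₀) := l.symm.toEquiv.subsingleton
    exact ModuleCat.isZero_of_subsingleton _
  haveI : IsIso a := isIso_of_reflects_iso a (shiftFunctor (Dual.D A) (1 : ℤ))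
  let a' := (eT A).inv ≫ (DCoh.tildeD (CommRingCat.of A)).map a ≫ e.hom
  haveI : IsIso a' := inferInstance
  obtain ⟨x, hx⟩ := (bijective_beta₀ f (Coh.structureModule X)).2 a'
  obtain ⟨g₀, rfl⟩ := (DerivedCategory.singleFunctor X.Modules 0).map_surjective x
  haveI := isIso_oneMap f (bijective_app f hbir)
  let S := DerivedCategory.singleFunctor (Spec (CommRingCat.of A)).Modules 0
  let k : OS A ⟶ OS A := oneMap f ≫ (Scheme.Modules.pushforward f).map g₀ ≫ inv (oneMap f)
  have hk : S.map k ≫ eta f = a' := by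
    rw [← hx, beta_single, eta, ← Category.assoc, ← Functor.map_comp]
    simp only [k, Category.assoc, IsIso.inv_hom_id, Category.comp_id]
    rfl
  obtain ⟨g, hg⟩ := S.map_surjective (eta f ≫ inv a')
  have h1 : k ≫ g = 𝟙 _ := S.map_injective (by
    rw [Functor.map_comp, hg, ← Category.assoc, hk, IsIso.hom_inv_id, CategoryTheory.Functor.map_id])
  have h2 : g ≫ k = 𝟙 _ := (comp_comm_OS g k).trans h1
  haveI : IsIso g := ⟨k, h2, h1⟩
  rw [show eta f = S.map g ≫ a' by rw [hg, Category.assoc, IsIso.inv_hom_id, Category.comp_id]]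
  infer_instance

/-- The trace in degree zero. -/
abbrev trace₀ : DCoh.HD ((DCoh.Rpush f).obj (DCoh.dualizingCx f h WA)) 0 ⟶ DCoh.HD WA.obj 0 :=
  (DerivedCategory.homologyFunctor (Spec (CommRingCat.of A)).Modules 0).map
    ((ObjectProperty.ι DCoh.IsQCohD).map ((DCoh.trace f h).app WA))

/-- Precomposition with the unit computes the trace on classes. -/
theorem beta_trace (x : DCoh.inD X (Coh.structureModule X) ⟶ DCoh.dualizingCx f h WA) :
    beta f x ≫ (ObjectProperty.ι DCoh.IsQCohD).map ((DCoh.trace f h).app WA) =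
      eta f ≫ adjEquiv f h WA
        ⟨_, KFlatLib.isQCohD_inD_of_isQCoh (QCoh.isQCoh_structureModule (X := X))⟩ x := by
  rw [adjEquiv_trace, beta, Category.assoc]

theorem bijective_psiC_OS {L : DCoh.D (Spec (CommRingCat.of A))} (hL : DCoh.IsQCohD L) :
    Function.Bijective (KFlatLib.psiC 0 (OS A) L) :=
  KFlatLib.bijective_psiC_tildeR (R := CommRingCat.of A) hL 0

include eW hω hdim hbir hXn in
/-- The trace is bijective in degree zero without `H¹`. -/
theorem isIso_trace₀ (hH : Subsingleton (Coh.HH X (Coh.structureModule X) 1)) : IsIso (trace₀ f h WA) := by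
  haveI := isGE_K f hdim hbir hω h WA eW
  haveI := isIso_eta f hdim hbir hXn hH
  have hqK := h _ (isQCohD_dualizingCx f h WA)
  refine KFlatLib.isIso_of_bijective_comp_qcoh (R := CommRingCat.of A) (hqK 0) (WA.property 0) _ ?_
  let P := OS A
  have hb : Function.Bijective fun z : DCoh.inD _ P ⟶ (DCoh.Rpush f).obj (DCoh.dualizingCx f h WA) =>
      z ≫ (ObjectProperty.ι DCoh.IsQCohD).map ((DCoh.trace f h).app WA) := by
    refine (Function.Bijective.of_comp_iff _ (bijective_beta_of_GE f (DCoh.dualizingCx f h WA))).1 ?_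
    have key : Function.Bijective ((fun y => eta f ≫ y) ∘ adjEquiv f h WA
        ⟨_, KFlatLib.isQCohD_inD_of_isQCoh (QCoh.isQCoh_structureModule (X := X))⟩) :=
      (Iso.homFromEquiv (asIso (eta f)).symm).bijective.comp (Equiv.bijective _)
    convert key using 1
    exact funext (beta_trace f h WA)
  refine (Function.Bijective.of_comp_iff _ (bijective_psiC_OS hqK)).1 ?_
  have key := (bijective_psiC_OS WA.property).comp hb
  refine (congrArg Function.Bijective ?_).mpr key
  funext z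
  exact (KFlatLib.psiC_comp (z : DCoh.inD _ P ⟶ (DCoh.Rpush f).obj (DCoh.dualizingCx f h WA))
    ((ObjectProperty.ι DCoh.IsQCohD).map ((DCoh.trace f h).app WA))).symm

include eW hω hdim hbir hXn in
/-- A scalar killing the cokernel of the trace kills `H¹`. -/
theorem exists_model_killed (d : A)
    (htr : ∀ s : (DCoh.HD WA.obj 0).val.obj (Opposite.op ⊤),
      ∃ t, ((trace₀ f h WA).val.app (Opposite.op ⊤)) t = ((Scheme.ΓSpecIso (CommRingCat.of A)).inv.hom d) • s) :
    ∃ R₀ : Dual.D A, Nonempty ((DCoh.tildeD (CommRingCat.of A)).obj R₀ ≅ RO f) ∧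
      ∀ x : Dual.HD A R₀ 1, d • x = 0 := by
  obtain ⟨R₀, ⟨e⟩, hge, hle, ⟨e0⟩, hfin, ⟨n, hn⟩, hκ⟩ := exists_model f hdim hbir hXn
  haveI := hge
  haveI := hle
  haveI := hfin
  haveI := isGE_K f hdim hbir hω h WA eW
  refine ⟨R₀, ⟨e⟩, smul_eq_zero_hd hdim hω e0 hκ hn d fun a ha s => ?_⟩
  haveI := ha
  let F := DCoh.tildeD (CommRingCat.of A)
  let P := OS A
  let S := DerivedCategory.singleFunctor (Spec (CommRingCat.of A)).Modules 0
  let σ : DCoh.inD _ P ⟶ WA.obj := (eT A).inv ≫ F.map s ≫ eW.inv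
  obtain ⟨t, ht⟩ := htr (InvX.one (KFlatLib.psiC 0 P WA.obj σ))
  have hqK := h _ (isQCohD_dualizingCx f h WA)
  obtain ⟨z, hz⟩ := (bijective_psiC_OS hqK).2
    (InvX.ofSect (show Γ(DCoh.HD ((DCoh.Rpush f).obj (DCoh.dualizingCx f h WA)) 0, ⊤) from t))
  obtain ⟨x, rfl⟩ := (bijective_beta_of_GE f (DCoh.dualizingCx f h WA)).2 z
  let sc : P ⟶ P := (tilde.functor (CommRingCat.of A)).map
    ((show CommRingCat.of A from d) • 𝟙 (ModuleCat.of (CommRingCat.of A) A))
  have hmain : beta f x ≫ (ObjectProperty.ι DCoh.IsQCohD).map ((DCoh.trace f h).app WA) = S.map sc ≫ σ := by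
    refine (bijective_psiC_OS WA.property).1 ?_
    rw [KFlatLib.psiC_comp, KFlatLib.psiC_single_map, hz]
    refine (AVAmple.ofSect_one _).symm.trans ((congrArg InvX.ofSect ?_).trans (AVAmple.ofSect_one _))
    refine (AmpleVan.one_comp _ _).trans ?_
    rw [InvX.one_ofSect]
    exact ht.trans (one_tilde_smul (R := CommRingCat.of A) d (KFlatLib.psiC 0 P WA.obj σ)).symm
  rw [beta_trace] at hmain
  obtain ⟨η, hη⟩ := (KFlatLib.tildeD_map_bijective (R := CommRingCat.of A) (Dual.inD A A) R₀).2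
    ((eT A).hom ≫ eta f ≫ e.inv)
  obtain ⟨ψ, hψ⟩ := (KFlatLib.tildeD_map_bijective (R := CommRingCat.of A) R₀ (Dual.inD A ωA)).2
    (e.hom ≫ adjEquiv f h WA
      ⟨_, KFlatLib.isQCohD_inD_of_isQCoh (QCoh.isQCoh_structureModule (X := X))⟩ x ≫ eW.hom)
  have hnat : F.map ((DerivedCategory.singleFunctor (ModuleCat.{u} A) 0).map (d • 𝟙 (ModuleCat.of A A))) ≫ (eT A).hom =
      (eT A).hom ≫ S.map sc :=
    ((tilde.functor (CommRingCat.of A)).mapDerivedCategorySingleFunctor 0).hom.naturality (d • 𝟙 (ModuleCat.of A A))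
  have hds : (DerivedCategory.singleFunctor (ModuleCat.{u} A) 0).map (d • 𝟙 (ModuleCat.of A A)) ≫ s = d • s := by
    rw [Functor.map_smul, CategoryTheory.Functor.map_id, Linear.smul_comp]
    exact congrArg (d • ·) (Category.id_comp s)
  have hη2 : η ≫ ψ = d • s := by
    refine (KFlatLib.tildeD_map_bijective (R := CommRingCat.of A) _ _).1 ?_
    rw [← hds, Functor.map_comp, Functor.map_comp, hη, hψ]
    simp only [Category.assoc, Iso.inv_hom_id_assoc]
    erw [reassoc_of% hmain]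
    simp only [σ, Category.assoc, Iso.inv_hom_id, Category.comp_id]
    rw [← reassoc_of% hnat, Iso.hom_inv_id_assoc]
  obtain ⟨c, hc⟩ := exists_smul_eq a η
  exact ⟨c • ψ, by rw [Linear.comp_smul, ← Linear.smul_comp, ← hc, hη2]⟩

end Groth.Agent.GRDual
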