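import Groth.Agent.KFlatLib.Scheme.RightAdjBound
import Groth.Agent.KFlatLib.Ring.LTenLinear
import Groth.Agent.RelPC17.BirFibre
import Groth.Agent.RelPC17.HighVanish
import Groth.Agent.H9Misc.RelExtTwistVanish
import Groth.Agent.QCoh.RpushModel
import Groth.Agent.QCoh.CechStd
import Groth.Agent.QCoh.Support
import Groth.Agent.QCoh.RpushExchange2
import Groth.Agent.ExistEasy.PP.Killed
import Groth.Prelude.Def_DDual2
import Groth.Prelude.Def_Wider

/-!
# Cohomological dimension of modifications and lower bound of the twisted inverse image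
-/

set_option autoImplicit false
set_option linter.style.haveILetI false
set_option linter.unusedSectionVars false
set_option backward.isDefEq.respectTransparency false
set_option backward.isDefEq.respectTransparency.types false
set_option maxHeartbeats 800000

universe u

open CategoryTheory CategoryTheory.Limits AlgebraicGeometry TopologicalSpace Opposite

attribute [local instance] HasDerivedCategory.standard

noncomputable section

namespace Groth.Agent.GRDual

open Groth.Agent

variable {X : Scheme.{u}}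

/-- Higher direct images vanish over affine opens with affine preimage. -/
theorem rpushVanish_one {Y : Scheme.{u}} (f : X ⟶ Y) [IsProper f] [HasInjectiveResolutions X.Modules]
    (V : Y.Opens) (hV : IsAffineOpen V) (hV' : IsAffineOpen (f ⁻¹ᵁ V)) :
    KFlatLib.RpushVanish f V 1 := fun M hM p hp => by
  obtain ⟨l⟩ := QCoh.nonempty_sections_HH (f := f) (V := V) hM hV p
  haveI : IsAffine (f ⁻¹ᵁ V).toScheme := hV'
  obtain ⟨q, rfl⟩ : ∃ q, p = q + 1 := ⟨p - 1, by omega⟩
  haveI := QCoh.subsingleton_HH_of_isAffine (QCoh.isQCoh_restrict (f ⁻¹ᵁ V).ι hM) q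
  haveI : IsAffine V.toScheme := hV
  refine QCoh.isZero_of_cover (QCoh.isQCoh_restrict _ (QCoh.isQCoh_Rpush f hM _))
    (fun _ : PUnit.{1} => (⊤ : V.toScheme.Opens)) (fun _ => isAffineOpen_top _)
    (fun _ => ⟨⟨⟩, trivial⟩) fun _ => ?_
  show Subsingleton Γ((Coh.Rpush f (q + 1)).obj M, V.ι ''ᵁ ⊤)
  rw [Scheme.Opens.ι_image_top]
  exact l.toEquiv.subsingleton

variable {A : Type u} [CommRing A] [IsDomain A] [IsNoetherianRing A]
  (f : X ⟶ Spec (CommRingCat.of A)) [IsProper f] [IsIntegral X]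

/-- The fibres have dimension at most one. -/
theorem rpushVanish_two [HasInjectiveResolutions X.Modules] (hdim : ringKrullDim A ≤ 2)
    (hbir : ∃ U : (Spec (CommRingCat.of A)).Opens, (U : Set (Spec (CommRingCat.of A))).Nonempty ∧ IsIso (f ∣_ U)) :
    KFlatLib.RpushVanish f ⊤ 2 := fun M hM p hp => by
  obtain ⟨U, hU, hiso⟩ := hbir
  haveI := hiso
  haveI : IsNoetherianRing (CommRingCat.of A) := inferInstanceAs (IsNoetherianRing A)
  haveI : IsDomain (CommRingCat.of A) := inferInstanceAs (IsDomain A)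
  haveI : IsLocallyNoetherian X := LocallyOfFiniteType.isLocallyNoetherian f
  haveI : CompactSpace X := QuasiCompact.compactSpace_of_compactSpace f
  haveI : QuasiSeparatedSpace X := quasiSeparatedSpace_of_quasiSeparated f
  have hY : topologicalKrullDim (Spec (CommRingCat.of A)) ≤ (2 : ℕ) :=
    le_of_eq_of_le (PrimeSpectrum.topologicalKrullDim_eq_ringKrullDim A) hdim
  obtain ⟨q, rfl⟩ : ∃ q, p = q + 1 := ⟨p - 1, by omega⟩
  exact Functor.map_isZero _ (H9Misc.RelExtTwistVanish.isZero_Rpush_of_RpushAb f M q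
    (RelPC17.HighVanish.isZero_RpushAb_noetherian f 1 (RelPC17.BirFibre.fibre_dim_le_one f hY U hU) hM
      (q + 1) (by omega)))

variable [DCoh.HasRpush f]

/-- Direct images of objects in degrees at most `b` live in degrees at most `b + 1`. -/
theorem isLE_rpush (hdim : ringKrullDim A ≤ 2)
    (hbir : ∃ U : (Spec (CommRingCat.of A)).Opens, (U : Set (Spec (CommRingCat.of A))).Nonempty ∧ IsIso (f ∣_ U))
    {K : DCoh.D X} (hK : DCoh.IsQCohD K) (b : ℤ) [K.IsLE b] :
    ((DCoh.Rpush f).obj K).IsLE (b + 1) := by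
  haveI := KFlatLib.hasInjectiveResolutions_modules (X := X)
  exact (DerivedCategory.isLE_iff _ _).2 fun i hi => KFlatLib.isZero_of_isZero_restrict _ fun y =>
    ⟨⊤, trivial, KFlatLib.isZero_restrict_hd_rpush f hK b ⊤ 2 (rpushVanish_two f hdim hbir) i (by omega)⟩

/-- The top cohomology of such direct images vanishes near the isomorphism locus. -/
theorem exists_restrict_hd_rpush
    (hbir : ∃ U : (Spec (CommRingCat.of A)).Opens, (U : Set (Spec (CommRingCat.of A))).Nonempty ∧ IsIso (f ∣_ U))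
    {K : DCoh.D X} (hK : DCoh.IsQCohD K) (b : ℤ) [K.IsLE b] :
    ∃ a : CommRingCat.of A, a ≠ 0 ∧ IsZero ((DCoh.HD ((DCoh.Rpush f).obj K) (b + 1)).restrict
      (Scheme.Opens.ι (X := Spec (CommRingCat.of A)) (PrimeSpectrum.basicOpen a))) := by
  haveI := KFlatLib.hasInjectiveResolutions_modules (X := X)
  obtain ⟨U, ⟨x, hx⟩, hiso⟩ := hbir
  haveI := hiso
  obtain ⟨_, ⟨a, rfl⟩, hxa, haU⟩ :=
    Opens.isBasis_iff_nbhd.1 (PrimeSpectrum.isBasis_basic_opens (R := CommRingCat.of A)) (U := U) hx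
  refine ⟨a, fun h0 => (h0 ▸ hxa) (Submodule.zero_mem _), ?_⟩
  let V : (Spec (CommRingCat.of A)).Opens := PrimeSpectrum.basicOpen a
  haveI := ExistEasy.isIso_restrict_of_le f (U := U) (D := V) haU
  have hV : IsAffineOpen V := IsAffineOpen.Spec_basicOpen a
  have hV' : IsAffineOpen (f ⁻¹ᵁ V) :=
    haveI : IsAffine V.toScheme := hV
    IsAffine.of_isIso (f ∣_ V)
  exact KFlatLib.isZero_restrict_hd_rpush f hK b V 1 (rpushVanish_one f V hV hV') (b + 1) (by omega)

/-- A map to `M~`, `M` torsion free, from a quasi-coherent sheaf vanishing on a basic open is zero. -/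
theorem eq_zero_of_restrict {R : CommRingCat.{u}} [IsDomain R] {Q : (Spec R).Modules} (hQ : Coh.IsQCoh Q)
    (M : ModuleCat.{u} R) (hM : ∀ (r : R) (m : M), r ≠ 0 → r • m = 0 → m = 0) (a : R) (ha : a ≠ 0)
    (hz : IsZero (Q.restrict (Scheme.Opens.ι (X := Spec R) (PrimeSpectrum.basicOpen a))))
    (g : Q ⟶ (tilde.functor R).obj M) : g = 0 := by
  obtain ⟨N, ⟨e⟩⟩ := QCoh.isQCoh_spec_iff.1 hQ
  obtain ⟨g₀, hg₀⟩ := (tilde.fullyFaithfulFunctor (R := R)).map_surjective (e.hom ≫ g)
  suffices h : g₀ = 0 by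
    rw [← cancel_epi e.hom, ← hg₀, h, Functor.map_zero, comp_zero]
  refine ModuleCat.hom_ext (LinearMap.ext fun n => ?_)
  let V : (Spec R).Opens := PrimeSpectrum.basicOpen a
  have hz' : IsZero ((tilde N).restrict V.ι) :=
    hz.of_iso ((Scheme.Modules.restrictFunctor V.ι).mapIso e)
  haveI : Subsingleton Γ((tilde N).restrict V.ι, ⊤) := QCoh.subsingleton_Γ_of_isZero hz' ⊤
  haveI : Subsingleton Γ(tilde N, V) := by
    have h : Subsingleton Γ(tilde N, V.ι ''ᵁ ⊤) := ‹Subsingleton Γ((tilde N).restrict V.ι, ⊤)›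
    rwa [Scheme.Opens.ι_image_top] at h
  obtain ⟨⟨s, k, rfl⟩, hs⟩ := (IsLocalizedModule.eq_zero_iff (Submonoid.powers a)
    (tilde.toOpen N (PrimeSpectrum.basicOpen a)).hom (m := n)).1
      (show (show Γ(tilde N, V) from (tilde.toOpen N (PrimeSpectrum.basicOpen a)).hom n) = 0 from Subsingleton.elim _ _)
  refine hM (a ^ k) _ (pow_ne_zero k ha) ?_
  rw [← map_smul]
  exact (congrArg g₀.hom hs).trans (map_zero _)

variable [PreservesFiniteLimits (tilde.functor (CommRingCat.of A))] (h : DCoh.RpushPreservesQCoh f) [DCoh.HasShriek f h]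
  (WA : DCoh.DQCoh (Spec (CommRingCat.of A)))

/-- The adjunction on objects with quasi-coherent cohomology. -/
def adjEquiv (K : DCoh.DQCoh X) :
    (K.obj ⟶ DCoh.dualizingCx f h WA) ≃ ((DCoh.Rpush f).obj K.obj ⟶ WA.obj) :=
  ((ObjectProperty.fullyFaithfulι _).homEquiv.symm.trans ((DCoh.shriekAdj f h).homEquiv K WA).symm).trans
    (ObjectProperty.fullyFaithfulι _).homEquiv

theorem adjEquiv_comp {K L : DCoh.DQCoh X} (g : K.obj ⟶ L.obj) (x : L.obj ⟶ DCoh.dualizingCx f h WA) :
    adjEquiv f h WA K (g ≫ x) = (DCoh.Rpush f).map g ≫ adjEquiv f h WA L x := by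
  have h1 := (DCoh.shriekAdj f h).homEquiv_naturality_left_symm (ObjectProperty.homMk g : K ⟶ L)
    (ObjectProperty.homMk x : L ⟶ (DCoh.shriek f h).obj WA)
  exact congrArg (fun z => z.hom) h1

theorem adjEquiv_trace (K : DCoh.DQCoh X) (x : K.obj ⟶ DCoh.dualizingCx f h WA) :
    adjEquiv f h WA K x = (DCoh.Rpush f).map x ≫ (ObjectProperty.ι DCoh.IsQCohD).map ((DCoh.trace f h).app WA) :=
  congrArg (fun z => z.hom) ((DCoh.shriekAdj f h).homEquiv_counit (g := (ObjectProperty.homMk x : K ⟶ (DCoh.shriek f h).obj WA)))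

theorem isQCohD_dualizingCx : DCoh.IsQCohD (DCoh.dualizingCx f h WA) := ((DCoh.shriek f h).obj WA).property

include f in
/-- The twisted inverse image starts in degree zero. -/
theorem isGE_dualizingCx (hdim : ringKrullDim A ≤ 2)
    (hbir : ∃ U : (Spec (CommRingCat.of A)).Opens, (U : Set (Spec (CommRingCat.of A))).Nonempty ∧ IsIso (f ∣_ U))
    (M : ModuleCat.{u} (CommRingCat.of A)) (hM : ∀ (r : A) (m : M), r ≠ 0 → r • m = 0 → m = 0)
    (eW : WA.obj ≅ DCoh.inD (Spec (CommRingCat.of A)) ((tilde.functor (CommRingCat.of A)).obj M)) :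
    (DCoh.dualizingCx f h WA).IsGE 0 :=
  (DerivedCategory.isGE_iff _ _).2 fun i hi =>
    KFlatLib.isZero_hd_of_orth (isQCohD_dualizingCx f h WA) (-1) (fun K hK hle φ => by
      haveI := hle
      haveI : ((DCoh.Rpush f).obj K).IsLE 0 := isLE_rpush f hdim hbir hK (-1)
      haveI : IsDomain (CommRingCat.of A) := inferInstanceAs (IsDomain A)
      obtain ⟨a, ha, hz⟩ := exists_restrict_hd_rpush f hbir hK (-1)
      refine (adjEquiv f h WA ⟨K, hK⟩).injective ((cancel_mono eW.hom).1 ?_)
      refine (KFlatLib.bijective_homologyMap 0).1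
        ((cancel_mono (KFlatLib.hSingle 0 ((tilde.functor (CommRingCat.of A)).obj M)).hom).1 ?_)
      exact (eq_zero_of_restrict (KFlatLib.isQCohD_rpush f hK 0) M hM a ha hz _).trans
        (eq_zero_of_restrict (KFlatLib.isQCohD_rpush f hK 0) M hM a ha hz _).symm) i (by omega)

end Groth.Agent.GRDual
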