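import Groth.Agent.CurveDual.Unit

/-!
# Degree zero classes of direct images over a general base
-/

set_option autoImplicit false
set_option linter.style.haveILetI false
set_option linter.unusedSectionVars false
set_option backward.isDefEq.respectTransparency false
set_option backward.isDefEq.respectTransparency.types false
set_option maxHeartbeats 800000

universe u

open CategoryTheory CategoryTheory.Limits CategoryTheory.Pretriangulated AlgebraicGeometry TopologicalSpace Opposite

attribute [local instance] HasDerivedCategory.standard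

noncomputable section

namespace Groth.Agent.GRDual

open Groth.Agent KFlatLib

variable {X Y : Scheme.{u}} (f : X ⟶ Y) [DCoh.HasRpush f]

/-- The unit section. -/
def oneMap : (Coh.structureModule Y) ⟶ (Scheme.Modules.pushforward f).obj (Coh.structureModule X) :=
  InvX.ofSect (M := (Scheme.Modules.pushforward f).obj (Coh.structureModule X))
    (show Γ((Scheme.Modules.pushforward f).obj (Coh.structureModule X), ⊤) from
      (1 : Γ(X, f ⁻¹ᵁ ⊤)))

/-- The unit in the derived category. -/
def eta : DCoh.inD Y (Coh.structureModule Y) ⟶ (DCoh.Rpush f).obj (DCoh.inD X (Coh.structureModule X)) :=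
  (DerivedCategory.singleFunctor _ 0).map (oneMap f) ≫ CurveDual.uMap f _

/-- Classes on `X` give classes of the direct image. -/
def beta {K : DCoh.D X} (x : DCoh.inD X (Coh.structureModule X) ⟶ K) :
    DCoh.inD Y (Coh.structureModule Y) ⟶ (DCoh.Rpush f).obj K :=
  eta f ≫ (DCoh.Rpush f).map x

theorem beta_comp {K L : DCoh.D X} (x : DCoh.inD X (Coh.structureModule X) ⟶ K) (g : K ⟶ L) :
    beta f (x ≫ g) = beta f x ≫ (DCoh.Rpush f).map g := by
  simp [beta, Functor.map_comp]

theorem beta_add {K : DCoh.D X} (x y : DCoh.inD X (Coh.structureModule X) ⟶ K) :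
    beta f (x + y) = beta f x + beta f y := by
  haveI := KFlatLib.BCLoc.rpush_additive f
  simp only [beta, Functor.map_add, Preadditive.comp_add]

theorem beta_zero {K : DCoh.D X} : beta f (0 : DCoh.inD X (Coh.structureModule X) ⟶ K) = 0 := by
  haveI := KFlatLib.BCLoc.rpush_additive f
  simp only [beta, Functor.map_zero, comp_zero]

theorem beta_single {M : X.Modules} (g : Coh.structureModule X ⟶ M) :
    beta f ((DerivedCategory.singleFunctor X.Modules 0).map g) =
      (DerivedCategory.singleFunctor _ 0).map (oneMap f ≫ (Scheme.Modules.pushforward f).map g) ≫ CurveDual.uMap f M := by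
  rw [beta, eta, Functor.map_comp, Category.assoc, Category.assoc, CurveDual.uMap_naturality]

theorem bijective_oneMap_comp (M : X.Modules) :
    Function.Bijective fun g : Coh.structureModule X ⟶ M =>
      oneMap f ≫ (Scheme.Modules.pushforward f).map g := by
  have key : ∀ g : Coh.structureModule X ⟶ M,
      InvX.one (oneMap f ≫ (Scheme.Modules.pushforward f).map g) = InvX.one g := fun g => by
    rw [AmpleVan.one_comp, oneMap, InvX.one_ofSect]
    rfl
  refine ⟨fun g g' h => ?_,
    fun w => ⟨InvX.ofSect (show Γ(M, ⊤) from InvX.one (L := (Scheme.Modules.pushforward f).obj M) w), ?_⟩⟩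
  · have h' : InvX.one g = InvX.one g' :=
      (key g).symm.trans ((congrArg (InvX.one (L := (Scheme.Modules.pushforward f).obj M)) h).trans (key g'))
    exact (AVAmple.ofSect_one g).symm.trans ((congrArg InvX.ofSect h').trans (AVAmple.ofSect_one g'))
  · refine (AVAmple.ofSect_one _).symm.trans ((congrArg InvX.ofSect ((key _).trans ?_)).trans (AVAmple.ofSect_one w))
    exact InvX.one_ofSect _

/-- Degree zero on an injective. -/
theorem bijective_beta_injective (I : X.Modules) [Injective I] :
    Function.Bijective (beta f (K := DCoh.inD X I)) := by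
  haveI := CurveDual.isIso_uMap f I
  refine (Function.Bijective.of_comp_iff _
    (⟨fun a b h => (DerivedCategory.singleFunctor X.Modules 0).map_injective h,
      fun y => (DerivedCategory.singleFunctor X.Modules 0).map_surjective y⟩ :
      Function.Bijective fun g : Coh.structureModule X ⟶ I =>
        (DerivedCategory.singleFunctor X.Modules 0).map g)).1 ?_
  rw [show beta f ∘ (fun g : Coh.structureModule X ⟶ I => (DerivedCategory.singleFunctor X.Modules 0).map g) =
    (fun w => (DerivedCategory.singleFunctor _ 0).map w ≫ CurveDual.uMap f I) ∘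
      fun g => oneMap f ≫ (Scheme.Modules.pushforward f).map g from funext fun g => beta_single f g]
  refine Function.Bijective.comp ?_ (bijective_oneMap_comp f I)
  exact (Iso.homToEquiv (asIso (CurveDual.uMap f I))).bijective.comp
    ⟨fun a b h => (DerivedCategory.singleFunctor _ 0).map_injective h,
      fun y => (DerivedCategory.singleFunctor _ 0).map_surjective y⟩

/-- Degree zero classes inject along monomorphisms. -/
theorem mono_rpush_f {S : ShortComplex X.Modules} (hS : S.ShortExact)
    (y : DCoh.inD Y (Coh.structureModule Y) ⟶ (DCoh.Rpush f).obj (DCoh.inD X S.X₁))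
    (hy : y ≫ (DCoh.Rpush f).map ((DerivedCategory.singleFunctor X.Modules 0).map S.f) = 0) : y = 0 := by
  have hT := inv_rot_of_distTriang _ hS.singleTriangle_distinguished
  obtain ⟨c, hc⟩ := exists_rpush_triangle f _ hT
  obtain ⟨z, hz⟩ := Triangle.coyoneda_exact₂ _ hc y hy
  haveI : ((hS.singleTriangle).invRotate.obj₁).IsGE 1 :=
    DerivedCategory.TStructure.t.isGE_shift (DCoh.inD X S.X₃) 0 (-1) 1 (by omega)
  haveI := isGE_rpush f (hS.singleTriangle).invRotate.obj₁ 1
  haveI : DerivedCategory.IsGE (Triangle.mk ((DCoh.Rpush f).map hS.singleTriangle.invRotate.mor₁)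
      ((DCoh.Rpush f).map hS.singleTriangle.invRotate.mor₂) c).obj₁ 1 := ‹_›
  rw [hz, show z = 0 from DerivedCategory.TStructure.t.zero_of_isLE_of_isGE z 0 1 (by omega) inferInstance inferInstance, zero_comp]

theorem injective_beta₀ (M : X.Modules) : Function.Injective (beta f (K := DCoh.inD X M)) := by
  intro a b h
  obtain ⟨a, rfl⟩ := (DerivedCategory.singleFunctor X.Modules 0).map_surjective a
  obtain ⟨b, rfl⟩ := (DerivedCategory.singleFunctor X.Modules 0).map_surjective b
  refine congrArg _ ((cancel_mono (CurveDual.injSeq M).f).1 ?_)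
  haveI := (CurveDual.injSeq_shortExact M).mono_f
  apply (DerivedCategory.singleFunctor X.Modules 0).map_injective
  apply (bijective_beta_injective f (CurveDual.injSeq M).X₂).1
  rw [Functor.map_comp, Functor.map_comp, beta_comp, beta_comp, h]

theorem bijective_beta₀ (M : X.Modules) : Function.Bijective (beta f (K := DCoh.inD X M)) := by
  refine ⟨injective_beta₀ f M, fun y => ?_⟩
  haveI := KFlatLib.BCLoc.rpush_additive f
  let S := CurveDual.injSeq M
  let s := DerivedCategory.singleFunctor X.Modules 0
  have hS := CurveDual.injSeq_shortExact M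
  obtain ⟨x, hx⟩ := (bijective_beta_injective f S.X₂).2 (y ≫ (DCoh.Rpush f).map (s.map S.f))
  obtain ⟨g, rfl⟩ := s.map_surjective x
  have h0 : s.map (g ≫ S.g) = 0 := injective_beta₀ f S.X₃ (by
    rw [Functor.map_comp, beta_comp, hx, Category.assoc, ← Functor.map_comp, ← Functor.map_comp,
      S.zero, Functor.map_zero, Functor.map_zero, comp_zero, beta_zero])
  haveI := hS.mono_f
  obtain ⟨h, hh⟩ : ∃ h, h ≫ S.f = g :=
    ⟨hS.exact.lift g (s.map_injective (h0.trans (s.map_zero _ _).symm)), hS.exact.lift_f _ _⟩
  refine ⟨s.map h, sub_eq_zero.1 (mono_rpush_f f hS _ ?_)⟩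
  rw [Preadditive.sub_comp, ← beta_comp, ← Functor.map_comp, hh, hx, sub_self]

/-- The unit section is an isomorphism when the functions agree. -/
theorem isIso_oneMap (hb : ∀ W : Y.Opens, Function.Bijective (f.app W)) : IsIso (oneMap f) := by
  refine Scheme.Modules.Hom.isIso_iff_isIso_app.2 fun W => ?_
  refine (ConcreteCategory.isIso_iff_bijective _).2 ?_
  let P := (Scheme.Modules.pushforward f).obj (Coh.structureModule X)
  have key : ∀ r : Γ(Y, W), (oneMap f).app W (show Γ(Coh.structureModule Y, W) from r) =
      (show Γ(P, W) from f.app W r) := fun r => by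
    rw [InvX.app_eq_smul, oneMap, InvX.one_ofSect]
    have h1 : AModX.res P (le_top : W ≤ ⊤) (show Γ(P, ⊤) from (1 : Γ(X, f ⁻¹ᵁ ⊤))) =
        (show Γ(P, W) from (1 : Γ(X, f ⁻¹ᵁ W))) := map_one (X.presheaf.map _).hom
    refine (congrArg (r • ·) h1).trans ?_
    show f.app W r * 1 = _
    rw [mul_one]
  rw [show ⇑((oneMap f).app W) = fun r => (show Γ(P, W) from f.app W r) from funext key]
  exact hb W

end Groth.Agent.GRDual
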