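import Groth.Agent.GRDual.Main
import Groth.Agent.S7328
import Groth.Agent.KExact.BCNat
import Groth.Agent.KFlatLib.Scheme.ProjLocFree

/-!
# Reduction to rational singularities from a killed trace cokernel
-/

set_option autoImplicit false
set_option linter.style.haveILetI false
set_option linter.unusedSectionVars false
set_option backward.isDefEq.respectTransparency false
set_option backward.isDefEq.respectTransparency.types false
set_option maxHeartbeats 800000

universe u

open CategoryTheory CategoryTheory.Limits AlgebraicGeometry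

attribute [local instance] HasDerivedCategory.standard

noncomputable section

namespace Groth.Agent.GRDual

open Groth.Agent

variable {A : Type u} [CommRing A] [IsDomain A] [IsLocalRing A] [IsNoetherianRing A] [IsIntegrallyClosed A]

/-- The first cohomology of every modification is killed by the scalar. -/
theorem smul_eq_zero_H1 (hdim : ringKrullDim A = 2)
    (ωA : Type u) [AddCommGroup ωA] [Module A ωA] (hω : Dual.IsDualizing A (Dual.inD A ωA))
    [PreservesFiniteLimits (tilde.functor (CommRingCat.of A))] (d : A)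
    (htr : ∀ (X : Scheme.{u}) (f : X ⟶ Spec (CommRingCat.of A)) [IsProper f] [IsIntegral X], Pi1.IsNormalScheme X →
      (∃ U : (Spec (CommRingCat.of A)).Opens, (U : Set (Spec (CommRingCat.of A))).Nonempty ∧ IsIso (f ∣_ U)) →
      ∀ [DCoh.HasRpush f] (h : DCoh.RpushPreservesQCoh f) [DCoh.HasShriek f h]
        (WA : DCoh.DQCoh (Spec (CommRingCat.of A))),
        Nonempty (WA.obj ≅ (DCoh.tildeD (CommRingCat.of A)).obj (Dual.inD A ωA)) →
        ∀ s : ((DerivedCategory.homologyFunctor (Spec (CommRingCat.of A)).Modules 0).obj WA.obj).val.obj (Opposite.op ⊤),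
          ∃ t, (((DerivedCategory.homologyFunctor (Spec (CommRingCat.of A)).Modules 0).map
              ((ObjectProperty.ι DCoh.IsQCohD).map ((DCoh.trace f h).app WA))).val.app (Opposite.op ⊤)) t =
            ((Scheme.ΓSpecIso (CommRingCat.of A)).inv.hom d) • s)
    {X : Scheme.{u}} [IsIntegral X] (f : X ⟶ Spec (CommRingCat.of A)) [IsProper f] (hXn : Pi1.IsNormalScheme X)
    (hbir : ∃ U : (Spec (CommRingCat.of A)).Opens, (U : Set (Spec (CommRingCat.of A))).Nonempty ∧ IsIso (f ∣_ U)) :
    letI := QCoh.modHH (Coh.toGlobal f) (Coh.structureModule X) 1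
    ∀ z : Coh.HH X (Coh.structureModule X) 1, d • z = 0 := by
  letI := QCoh.modHH (Coh.toGlobal f) (Coh.structureModule X) 1
  haveI := KFlatLib.hasRpush_scheme f
  haveI : CompactSpace X := QuasiCompact.compactSpace_of_compactSpace f
  haveI : QuasiSeparatedSpace X := quasiSeparatedSpace_of_quasiSeparated f
  have h : DCoh.RpushPreservesQCoh f := fun K hK => KFlatLib.isQCohD_rpush f hK
  obtain ⟨a, ⟨adj⟩⟩ := KExact.BCNat.exists_adj f h
  haveI : DCoh.HasShriek f h := adj.isLeftAdjoint
  let WA : DCoh.DQCoh (Spec (CommRingCat.of A)) := ⟨(DCoh.tildeD (CommRingCat.of A)).obj (Dual.inD A ωA),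
    KFlatLib.isQCohD_tildeD (CommRingCat.of A) _⟩
  obtain ⟨R₀, ⟨e⟩, hkill⟩ := exists_model_killed f hdim hbir hXn hω h WA (Iso.refl _) d
    (htr X f hXn hbir h WA ⟨Iso.refl _⟩)
  obtain ⟨l⟩ := nonempty_H1_model f e
  intro z
  exact l.injective (by rw [map_smul, map_zero]; exact hkill (l z))

/-- Bounded lengths of `H¹`. -/
theorem exists_bound {R : CommRingCat.{u}} [IsDomain R] [IsLocalRing R] [IsNoetherianRing R] [IsIntegrallyClosed R]
    (hN : CAlg.IsNagata R) (hdim : ringKrullDim R = 2) (d : R) (hd : d ≠ 0)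
    (hkill : ∀ (X : Scheme.{u}) [IsIntegral X] (f : X ⟶ Spec R) [IsProper f], Pi1.IsNormalScheme X →
      (∃ U : (Spec R).Opens, (U : Set (Spec R)).Nonempty ∧ IsIso (f ∣_ U)) →
      letI := QCoh.modHH (Coh.toGlobal f) (Coh.structureModule X) 1
      ∀ z : Coh.HH X (Coh.structureModule X) 1, d • z = 0) :
    ∃ N : ℕ, ∀ (X : Scheme.{u}) [X.Over (Spec (CommRingCat.of R))], IsProper (X ↘ Spec (CommRingCat.of R)) →
        IsIntegral X → Pi1.IsNormalScheme X →
        (∃ U : (Spec (CommRingCat.of R)).Opens, (U : Set (Spec (CommRingCat.of R))).Nonempty ∧ IsIso ((X ↘ Spec (CommRingCat.of R)) ∣_ U)) →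
        Module.length R (Coh.HH X (Coh.structureModule X) 1) ≤ (N : ℕ∞) := by
  obtain ⟨n, hn⟩ := S7328.exists_torsion_bound (S := R) hN (S7328.height_eq_two hdim) hd
  refine ⟨n, fun X _ hP hI hNn hU => ?_⟩
  haveI := hI
  haveI := hP
  obtain ⟨hgen, hbir⟩ := RatSing.birational_of_isIso (X ↘ Spec (CommRingCat.of R)) hU
  let M : NormSeq.Model (Spec R) :=
    { Z := X, G := X ↘ Spec (CommRingCat.of R), gen := hgen, bir := hbir }
  haveI : IsProper M.G := hP
  have h := hn M hNn hU
  letI := QCoh.modHH (Coh.toGlobal M.G) (Coh.structureModule M.Z) 1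
  have htop : Submodule.torsionBy R (Coh.HH M.Z (Coh.structureModule M.Z) 1) d = ⊤ :=
    eq_top_iff.2 fun z _ => hkill X (X ↘ Spec (CommRingCat.of R)) hNn hU z
  rw [htop] at h
  exact (LinearEquiv.length_eq (Submodule.topEquiv.symm)).le.trans h

end Groth.Agent.GRDual
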