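import Groth.Agent.GRDual.Core
import Groth.Agent.KFlatLib.Ring.LTenLinear

/-!
# The model of `Rf_* O` in the derived category of the local ring
-/

set_option autoImplicit false
set_option linter.style.haveILetI false
set_option linter.unusedSectionVars false
set_option backward.isDefEq.respectTransparency false
set_option backward.isDefEq.respectTransparency.types false
set_option maxHeartbeats 800000

universe u

open CategoryTheory CategoryTheory.Limits CategoryTheory.Pretriangulated IsLocalRing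

attribute [local instance] HasDerivedCategory.standard

noncomputable section

namespace Groth.Agent.GRDual

open Groth.Agent

variable {A : Type u} [CommRing A] {R₀ : Dual.D A}

variable (A) in
/-- Cohomology of complexes of modules. -/
abbrev hFun (i : ℤ) := DerivedCategory.homologyFunctor (ModuleCat.{u} A) i

/-- The cohomology in degree `i` of a single module in degree `i`. -/
theorem nonempty_iso_of_single {K : Dual.D A} (i : ℤ) [K.IsGE i] [K.IsLE i] :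
    Nonempty ((DerivedCategory.singleFunctor (ModuleCat.{u} A) i).obj ((hFun A i).obj K) ≅ K) := by
  obtain ⟨V, ⟨e⟩⟩ := DerivedCategory.exists_iso_singleFunctor_obj_of_isGE_of_isLE K i
  exact ⟨(DerivedCategory.singleFunctor (ModuleCat.{u} A) i).mapIso
    ((hFun A i).mapIso e ≪≫ KFlatLib.hSingle i V) ≪≫ e.symm⟩

/-- The truncation triangle of an object in degrees `0` and `1`. -/
theorem exists_triangle_model [R₀.IsGE 0] [R₀.IsLE 1] (e0 : (hFun A 0).obj R₀ ≅ ModuleCat.of A A) :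
    ∃ (a : Dual.inD A A ⟶ R₀) (q : R₀⟦(1 : ℤ)⟧ ⟶ Dual.inD A (Dual.HD A R₀ 1))
      (δ : Dual.inD A (Dual.HD A R₀ 1) ⟶ ((Dual.inD A A)⟦(1 : ℤ)⟧)⟦(1 : ℤ)⟧),
      Triangle.mk (a⟦(1 : ℤ)⟧') q δ ∈ distTriang (Dual.D A) ∧ IsIso ((hFun A 0).map a) := by
  obtain ⟨P, B, hP, hB, a, b, c, hT⟩ := DerivedCategory.TStructure.t.exists_triangle R₀ 0 1 (by omega)
  haveI : P.IsLE 0 := ⟨hP⟩
  haveI : B.IsGE 1 := ⟨hB⟩
  haveI : P.IsGE 0 := (DerivedCategory.isGE_iff _ _).2 fun i hi =>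
    (DerivedCategory.HomologySequence.exact₁ _ hT (i - 1) i (by omega)).isZero_of_both_zeros
      ((DerivedCategory.isZero_of_isGE B 1 (i - 1) (by omega)).eq_of_src _ _)
      ((DerivedCategory.isZero_of_isGE R₀ 0 i hi).eq_of_tgt _ _)
  haveI : B.IsLE 1 := (DerivedCategory.isLE_iff _ _).2 fun i hi =>
    (DerivedCategory.HomologySequence.exact₃ _ hT i (i + 1) (by omega)).isZero_of_both_zeros
      ((DerivedCategory.isZero_of_isLE R₀ 1 i hi).eq_of_src _ _)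
      ((DerivedCategory.isZero_of_isLE P 0 (i + 1) (by omega)).eq_of_tgt _ _)
  haveI : IsIso ((hFun A 0).map a) := by
    haveI : Mono ((hFun A 0).map a) := (DerivedCategory.HomologySequence.mono_homologyMap_mor₁_iff _ hT
      (-1) 0 (by omega)).2 ((DerivedCategory.isZero_of_isGE B 1 (-1) (by omega)).eq_of_src _ _)
    haveI : Epi ((hFun A 0).map a) := (DerivedCategory.HomologySequence.exact₂ _ hT 0).epi_f
      ((DerivedCategory.isZero_of_isGE B 1 0 (by omega)).eq_of_tgt _ _)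
    exact isIso_of_mono_of_epi _
  haveI : IsIso ((hFun A 1).map b) := by
    haveI : Mono ((hFun A 1).map b) := (DerivedCategory.HomologySequence.exact₂ _ hT 1).mono_g
      ((DerivedCategory.isZero_of_isLE P 0 1 (by omega)).eq_of_src _ _)
    haveI : Epi ((hFun A 1).map b) := (DerivedCategory.HomologySequence.exact₃ _ hT 1 2 (by omega)).epi_f
      ((DerivedCategory.isZero_of_isLE P 0 2 (by omega)).eq_of_tgt _ _)
    exact isIso_of_mono_of_epi _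
  obtain ⟨eP'⟩ := nonempty_iso_of_single (K := P) 0
  obtain ⟨eB'⟩ := nonempty_iso_of_single (K := B) 1
  let eP : Dual.inD A A ≅ P :=
    (DerivedCategory.singleFunctor (ModuleCat.{u} A) 0).mapIso (e0.symm ≪≫ (asIso ((hFun A 0).map a)).symm) ≪≫ eP'
  let eB : Dual.inD A (Dual.HD A R₀ 1) ≅ B⟦(1 : ℤ)⟧ :=
    (DerivedCategory.singleFunctor (ModuleCat.{u} A) 0).mapIso (asIso ((hFun A 1).map b)) ≪≫
      (((DerivedCategory.singleFunctors (ModuleCat.{u} A)).shiftIso (1 : ℤ) 0 1 (by omega)).app _).symm ≪≫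
      (shiftFunctor (Dual.D A) (1 : ℤ)).mapIso eB'
  have hT3 := rot_of_distTriang _ (rot_of_distTriang _ (rot_of_distTriang _ hT))
  have hiso : IsIso ((hFun A 0).map (eP.hom ≫ (-a))) := by
    haveI : IsIso (-((hFun A 0).map a)) := ⟨-inv ((hFun A 0).map a), by simp, by simp⟩
    rw [Functor.map_comp, Functor.map_neg]
    infer_instance
  refine ⟨eP.hom ≫ (-a), (-(b⟦(1 : ℤ)⟧')) ≫ eB.inv,
    eB.hom ≫ (-(c⟦(1 : ℤ)⟧')) ≫ (eP.inv⟦(1 : ℤ)⟧')⟦(1 : ℤ)⟧', ?_, hiso⟩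
  refine isomorphic_distinguished _ hT3 _ (Triangle.isoMk _ _ ((shiftFunctor (Dual.D A) (1 : ℤ)).mapIso eP)
    (Iso.refl _) eB ?_ ?_ ?_)
  · show (eP.hom ≫ (-a))⟦(1 : ℤ)⟧' ≫ 𝟙 _ = eP.hom⟦(1 : ℤ)⟧' ≫ (-(a⟦(1 : ℤ)⟧'))
    rw [Category.comp_id, Functor.map_comp, Functor.map_neg]
  · show ((-(b⟦(1 : ℤ)⟧')) ≫ eB.inv) ≫ eB.hom = 𝟙 _ ≫ (-(b⟦(1 : ℤ)⟧'))
    rw [Category.assoc, eB.inv_hom_id, Category.comp_id, Category.id_comp]
  · show (eB.hom ≫ (-(c⟦(1 : ℤ)⟧')) ≫ (eP.inv⟦(1 : ℤ)⟧')⟦(1 : ℤ)⟧') ≫ (eP.hom⟦(1 : ℤ)⟧')⟦(1 : ℤ)⟧' =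
      eB.hom ≫ (-(c⟦(1 : ℤ)⟧'))
    rw [Category.assoc, Category.assoc, ← Functor.map_comp, ← Functor.map_comp, eP.inv_hom_id,
      CategoryTheory.Functor.map_id, CategoryTheory.Functor.map_id]
    erw [Category.comp_id]

variable [IsLocalRing A] [IsNoetherianRing A] [IsDomain A]
  (hdim : ringKrullDim A = 2) {ωA : Type u} [AddCommGroup ωA] [Module A ωA]
  (hω : Dual.IsDualizing A (Dual.inD A ωA))
  [R₀.IsGE 0] [R₀.IsLE 1] (e0 : (hFun A 0).obj R₀ ≅ ModuleCat.of A A) [Module.Finite A (Dual.HD A R₀ 1)]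
  (hκ : ∀ v : Dual.inD A (ResidueField A) ⟶ R₀⟦(1 : ℤ)⟧, v = 0)

include hdim hω hκ in
theorem surjective_delta {a : Dual.inD A A ⟶ R₀} {q : R₀⟦(1 : ℤ)⟧ ⟶ Dual.inD A (Dual.HD A R₀ 1)}
    {δ : Dual.inD A (Dual.HD A R₀ 1) ⟶ ((Dual.inD A A)⟦(1 : ℤ)⟧)⟦(1 : ℤ)⟧}
    (hT : Triangle.mk (a⟦(1 : ℤ)⟧') q δ ∈ distTriang (Dual.D A))
    (χ : Dual.inD A (Dual.HD A R₀ 1) ⟶ (Dual.inD A ωA)⟦(2 : ℤ)⟧) :
    ∃ ψ, δ ≫ ψ = χ := by
  obtain ⟨hω', hn'⟩ := exists_normalized_two hdim ωA hω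
  refine surjective_precomp hω' hn' A 2 ((shiftFunctorAdd' (Dual.D A) (1 : ℤ) 1 2 (by omega)).app _)
    (Dual.HD A R₀ 1) 0 ((shiftFunctorZero (Dual.D A) ℤ).app _) δ (fun n u hu => ?_) χ
  obtain ⟨v, hv⟩ := Triangle.coyoneda_exact₃ _ hT u hu
  rw [hv, show v = 0 from eq_zero_of_isFiniteLength hκ _ (LC.isFiniteLength_quot_pow (R := A) n) v, zero_comp]

include hdim hω hκ e0 in
/-- `Hom(R₀, ω[1]) = 0`. -/
theorem eq_zero_hom_shift (φ : R₀ ⟶ (Dual.inD A ωA)⟦(1 : ℤ)⟧) : φ = 0 := by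
  let e2 := (shiftFunctorAdd' (Dual.D A) (1 : ℤ) 1 2 (by omega)).app (Dual.inD A ωA)
  suffices h : ∀ θ : R₀⟦(1 : ℤ)⟧ ⟶ (Dual.inD A ωA)⟦(2 : ℤ)⟧, θ = 0 by
    refine (shiftFunctor (Dual.D A) (1 : ℤ)).map_injective ((cancel_mono e2.inv).1 ?_)
    rw [Functor.map_zero, zero_comp]
    exact h _
  intro θ
  obtain ⟨a, q, δ, hT, -⟩ := exists_triangle_model e0
  obtain ⟨χ, hχ⟩ := Triangle.yoneda_exact₂ _ hT θ (eq_zero_shift_one (Iso.refl _) _)
  obtain ⟨ψ, hψ⟩ := surjective_delta hdim hω hκ hT χ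
  rw [hχ, ← hψ, ← Category.assoc]
  exact (congrArg (· ≫ ψ) (comp_distTriang_mor_zero₂₃ _ hT)).trans zero_comp

include hdim hω hκ e0 in
/-- If scalar multiples of functionals extend to the model then the scalar kills `H¹`. -/
theorem smul_eq_zero_hd {n : ℕ} (hH : ∀ c ∈ maximalIdeal A ^ n, ∀ x : Dual.HD A R₀ 1, c • x = 0) (d : A)
    (hd : ∀ a : Dual.inD A A ⟶ R₀, IsIso ((hFun A 0).map a) →
      ∀ s : Dual.inD A A ⟶ Dual.inD A ωA, ∃ ψ : R₀ ⟶ Dual.inD A ωA, a ≫ ψ = d • s)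
    (x : Dual.HD A R₀ 1) : d • x = 0 := by
  obtain ⟨hω', hn'⟩ := exists_normalized_two hdim ωA hω
  obtain ⟨a, q, δ, hT, ha⟩ := exists_triangle_model e0
  let e2 := (shiftFunctorAdd' (Dual.D A) (1 : ℤ) 1 2 (by omega)).app (Dual.inD A ωA)
  refine smul_eq_zero_of_dual hω' hn' _ hH d (fun χ => ?_) x
  obtain ⟨ψ₀, hψ₀⟩ := surjective_delta hdim hω hκ hT χ
  obtain ⟨s', hs'⟩ := (shiftFunctor (Dual.D A) (1 : ℤ)).map_surjective (ψ₀ ≫ e2.hom)
  obtain ⟨s, rfl⟩ := (shiftFunctor (Dual.D A) (1 : ℤ)).map_surjective s'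
  obtain ⟨ψ, hψ⟩ := hd a ha s
  have hz : δ ≫ (a⟦(1 : ℤ)⟧')⟦(1 : ℤ)⟧' = 0 := comp_distTriang_mor_zero₃₁ _ hT
  rw [← hψ₀, show ψ₀ = ((s⟦(1 : ℤ)⟧')⟦(1 : ℤ)⟧') ≫ e2.inv by rw [hs', Category.assoc, e2.hom_inv_id]; exact (Category.comp_id _).symm,
    ← Linear.comp_smul, ← Linear.smul_comp, ← Functor.map_smul, ← Functor.map_smul, ← hψ, Functor.map_comp,
    Functor.map_comp, Category.assoc, ← Category.assoc δ, hz, zero_comp]

end Groth.Agent.GRDual
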