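import Groth.Agent.GRDual.Base
import Groth.Agent.GRDual.Model
import Groth.Agent.GRDual.Beta
import Groth.Agent.GRVal.Main
import Groth.Agent.GeomIrrSpread.SmoothNeutral
import Groth.Agent.R1Push.Support
import Groth.Agent.Sol.Regular
import Groth.Agent.RelPC17.TopDegree
import Groth.Agent.QCoh.SpecFT
import Groth.Agent.QCoh.DevissageP
import Groth.Agent.SheafHomX.Coherent
import Groth.Agent.KFlatLib.Scheme.ProjAffineFlat
import Groth.Agent.KExact.DualizingS2
import Groth.Agent.H26.Contract
import Groth.Agent.RegRes.Base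

/-!
# The model of `Rf_* O` for a modification of a normal surface germ
-/

set_option autoImplicit false
set_option linter.style.haveILetI false
set_option linter.unusedSectionVars false
set_option backward.isDefEq.respectTransparency false
set_option backward.isDefEq.respectTransparency.types false
set_option maxHeartbeats 800000

universe u

open CategoryTheory CategoryTheory.Limits AlgebraicGeometry TopologicalSpace IsLocalRing Opposite
open Pretriangulated

attribute [local instance] HasDerivedCategory.standard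

noncomputable section

namespace Groth.Agent.GRDual

open Groth.Agent

/-- `~` detects zero objects. -/
theorem isZero_of_isZero_tilde {R : CommRingCat.{u}} {M : ModuleCat.{u} R}
    (h : IsZero ((tilde.functor R).obj M)) : IsZero M :=
  (IsZero.iff_id_eq_zero M).2 ((tilde.fullyFaithfulFunctor (R := R)).map_injective (h.eq_of_src _ _))

/-- Sections of a tilde vanishing on a basic open are killed by a power. -/
theorem exists_pow_smul_of_restrict {R : CommRingCat.{u}} (N : ModuleCat.{u} R) (a : R)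
    (hz : IsZero ((tilde N).restrict (Scheme.Opens.ι (X := Spec R) (PrimeSpectrum.basicOpen a)))) (x : N) :
    ∃ k : ℕ, a ^ k • x = 0 := by
  let V : (Spec R).Opens := PrimeSpectrum.basicOpen a
  haveI : Subsingleton Γ((tilde N).restrict V.ι, ⊤) := QCoh.subsingleton_Γ_of_isZero hz ⊤
  haveI : Subsingleton Γ(tilde N, V) := by
    have h : Subsingleton Γ(tilde N, V.ι ''ᵁ ⊤) := ‹Subsingleton Γ((tilde N).restrict V.ι, ⊤)›
    rwa [Scheme.Opens.ι_image_top] at h
  obtain ⟨⟨s, k, rfl⟩, hs⟩ := (IsLocalizedModule.eq_zero_iff (Submonoid.powers a)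
    (tilde.toOpen N (PrimeSpectrum.basicOpen a)).hom (m := x)).1
      (show (show Γ(tilde N, V) from (tilde.toOpen N (PrimeSpectrum.basicOpen a)).hom x) = 0 from Subsingleton.elim _ _)
  exact ⟨k, hs⟩

variable {A : Type u} [CommRing A] [IsDomain A] [IsLocalRing A] [IsNoetherianRing A] [IsIntegrallyClosed A]
  {X : Scheme.{u}} [IsIntegral X] (f : X ⟶ Spec (CommRingCat.of A)) [IsProper f]

include f in
/-- The modification is an isomorphism away from the closed point. -/
theorem isIso_restrict_punctured (hdim : ringKrullDim A ≤ 2)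
    (hbir : ∃ U : (Spec (CommRingCat.of A)).Opens, (U : Set (Spec (CommRingCat.of A))).Nonempty ∧ IsIso (f ∣_ U))
    (a : CommRingCat.of A) (ha : a ≠ 0) (ham : a ∈ maximalIdeal A) :
    IsIso (f ∣_ (PrimeSpectrum.basicOpen a : (Spec (CommRingCat.of A)).Opens)) := by
  obtain ⟨U, hU, hiso⟩ := hbir
  haveI := hiso
  haveI : IsDomain (CommRingCat.of A) := inferInstanceAs (IsDomain A)
  haveI : IsNoetherianRing (CommRingCat.of A) := inferInstanceAs (IsNoetherianRing A)
  have hgen := RegRes.isIso_generic_of_restrict f U hU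
  have hd : ∀ y : Spec (CommRingCat.of A), ringKrullDim ((Spec (CommRingCat.of A)).presheaf.stalk y) ≤ 2 := fun y =>
    (SchTop.ringKrullDim_stalk_le _).trans ((PrimeSpectrum.topologicalKrullDim_eq_ringKrullDim (R := A)).le.trans hdim)
  obtain ⟨-, hpt⟩ := R1Push.finite_bad (GeomIrrSpread.isNormalScheme_spec A) hd f hgen
  refine Sol.isIso_restrict_of_stalk f hgen _ ⟨⟨⊥, Ideal.isPrime_bot⟩, fun h => ha ?_⟩ fun w hw => ?_
  · exact (Submodule.mem_bot A).1 h
  · by_contra hc
    have h2 := hpt (f w) ⟨w, hc, rfl⟩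
    have h3 : (f w : PrimeSpectrum A).asIdeal.IsMaximal :=
      (PrimeSpectrum.isClosed_singleton_iff_isMaximal _).1 h2
    refine hw ?_
    show a ∈ (f w : PrimeSpectrum A).asIdeal
    rw [IsLocalRing.eq_maximalIdeal h3]
    exact ham

/-- The functions of the modification are those of the base. -/
theorem bijective_app
    (hbir : ∃ U : (Spec (CommRingCat.of A)).Opens, (U : Set (Spec (CommRingCat.of A))).Nonempty ∧ IsIso (f ∣_ U))
    (W : (Spec (CommRingCat.of A)).Opens) : Function.Bijective (f.app W) := by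
  obtain ⟨U, hU, hiso⟩ := hbir
  haveI := hiso
  haveI : IsDomain (CommRingCat.of A) := inferInstanceAs (IsDomain A)
  exact H26.Contract.bijective_app f hU (GeomIrrSpread.isNormalScheme_spec A) W

variable [PreservesFiniteLimits (tilde.functor (CommRingCat.of A))] [DCoh.HasRpush f]

/-- The derived direct image of the structure sheaf. -/
abbrev RO : DCoh.D (Spec (CommRingCat.of A)) := (DCoh.Rpush f).obj (DCoh.inD X (Coh.structureModule X))

/-- The cohomology of the model. -/
def hdIso {R₀ : Dual.D A} {K : DCoh.D (Spec (CommRingCat.of A))}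
    (e : (DCoh.tildeD (CommRingCat.of A)).obj R₀ ≅ K) (i : ℤ) :
    (tilde.functor (CommRingCat.of A)).obj ((hFun A i).obj R₀) ≅ DCoh.HD K i :=
  ((KFlatLib.mapDCHomologyIso (tilde.functor (CommRingCat.of A)) i).app R₀).symm ≪≫
    (DerivedCategory.homologyFunctor _ i).mapIso e

/-- The model. -/
theorem exists_model (hdim : ringKrullDim A = 2)
    (hbir : ∃ U : (Spec (CommRingCat.of A)).Opens, (U : Set (Spec (CommRingCat.of A))).Nonempty ∧ IsIso (f ∣_ U))
    (hXn : Pi1.IsNormalScheme X) :
    ∃ R₀ : Dual.D A, Nonempty ((DCoh.tildeD (CommRingCat.of A)).obj R₀ ≅ (RO f)) ∧ R₀.IsGE 0 ∧ R₀.IsLE 1 ∧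
      Nonempty ((hFun A 0).obj R₀ ≅ ModuleCat.of A A) ∧ Module.Finite A (Dual.HD A R₀ 1) ∧
      (∃ n : ℕ, ∀ c ∈ maximalIdeal A ^ n, ∀ x : Dual.HD A R₀ 1, c • x = 0) ∧
      ∀ v : Dual.inD A (ResidueField A) ⟶ R₀⟦(1 : ℤ)⟧, v = 0 := by
  haveI := KFlatLib.hasInjectiveResolutions_modules (X := X)
  haveI : IsNoetherianRing (CommRingCat.of A) := inferInstanceAs (IsNoetherianRing A)
  haveI : IsLocallyNoetherian X := LocallyOfFiniteType.isLocallyNoetherian f
  have hqO := KFlatLib.isQCohD_inD_of_isQCoh (QCoh.isQCoh_structureModule (X := X))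
  obtain ⟨R₀, ⟨e⟩⟩ := KFlatLib.exists_tildeD_iso (R := CommRingCat.of A) (KFlatLib.isQCohD_rpush f hqO)
  haveI : DerivedCategory.IsLE (RO f) 1 := isLE_rpush f hdim.le hbir hqO 0
  haveI : DerivedCategory.IsGE (RO f) 0 := KFlatLib.isGE_rpush f _ 0
  have hge : DerivedCategory.IsGE R₀ 0 := (DerivedCategory.isGE_iff _ _).2 fun i hi =>
    isZero_of_isZero_tilde ((DerivedCategory.isZero_of_isGE (RO f) 0 i hi).of_iso (hdIso e i))
  have hle : DerivedCategory.IsLE R₀ 1 := (DerivedCategory.isLE_iff _ _).2 fun i hi =>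
    isZero_of_isZero_tilde ((DerivedCategory.isZero_of_isLE (RO f) 1 i hi).of_iso (hdIso e i))
  refine ⟨R₀, ⟨e⟩, hge, hle, ?_, ?_⟩
  · haveI := isIso_oneMap f (bijective_app f hbir)
    obtain ⟨g0⟩ := KFlatLib.nonempty_hd_rpush_single f (Coh.structureModule X) 0
    exact ⟨(tilde.fullyFaithfulFunctor (R := CommRingCat.of A)).preimageIso
      (hdIso e 0 ≪≫ g0 ≪≫ (Scheme.Modules.pushforward f).rightDerivedZeroIsoSelf.app _ ≪≫
        (asIso (oneMap f)).symm ≪≫ tildeSelf.symm)⟩
  obtain ⟨g1⟩ := KFlatLib.nonempty_hd_rpush_single f (Coh.structureModule X) 1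
  let N : ModuleCat.{u} (CommRingCat.of A) := (hFun A 1).obj R₀
  let eN : (tilde.functor (CommRingCat.of A)).obj N ≅ (Coh.Rpush f 1).obj (Coh.structureModule X) := hdIso e 1 ≪≫ g1
  obtain ⟨U, hU, hiso⟩ := hbir
  haveI := hiso
  haveI : IsDomain (CommRingCat.of A) := inferInstanceAs (IsDomain A)
  have hY : topologicalKrullDim (Spec (CommRingCat.of A)) ≤ (2 : ℕ) :=
    le_of_eq_of_le (PrimeSpectrum.topologicalKrullDim_eq_ringKrullDim A) hdim.le
  have hcoh := SheafHomX.isCoh_of_iso eN.symm (RelPC17.TopDegree.isCoh_Rpush_top f 1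
    (RelPC17.BirFibre.fibre_dim_le_one f hY U hU) (QCoh.isCoh_structureModule' (X := X)))
  have hfin : Module.Finite A (Dual.HD A R₀ 1) := (QCoh.isFT_tilde_iff N).1 hcoh.2
  refine ⟨hfin, ?_, fun v => ?_⟩
  · have hrad : maximalIdeal A ≤ (Module.annihilator A (Dual.HD A R₀ 1)).radical := fun a ha => by
      by_cases ha0 : a = 0
      · rw [ha0]
        exact zero_mem _
      let a' : CommRingCat.of A := a
      let V : (Spec (CommRingCat.of A)).Opens := PrimeSpectrum.basicOpen a'
      haveI := isIso_restrict_punctured f hdim.le ⟨U, hU, hiso⟩ a ha0 ha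
      have hV : IsAffineOpen V := IsAffineOpen.Spec_basicOpen a'
      have hV' : IsAffineOpen (f ⁻¹ᵁ V) :=
        haveI : IsAffine V.toScheme := hV
        IsAffine.of_isIso (f ∣_ V)
      have hz : IsZero ((tilde N).restrict V.ι) :=
        (rpushVanish_one f V hV hV' _ (QCoh.isQCoh_structureModule (X := X)) 1 le_rfl).of_iso
          ((Scheme.Modules.restrictFunctor V.ι).mapIso eN)
      obtain ⟨s, hs⟩ := hfin.fg_top
      choose l hk using exists_pow_smul_of_restrict N a' hz
      refine ⟨s.sup l, Module.mem_annihilator.2 fun x => ?_⟩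
      have hx : x ∈ Submodule.span A (s : Set (Dual.HD A R₀ 1)) := hs ▸ Submodule.mem_top
      induction hx using Submodule.span_induction with
      | mem y hy =>
        obtain ⟨j, hj⟩ := Nat.exists_eq_add_of_le (Finset.le_sup (f := l) hy)
        have h0 : a ^ l y • (show Dual.HD A R₀ 1 from y) = 0 := hk y
        rw [hj, add_comm, pow_add, mul_smul, h0, smul_zero]
      | zero => exact smul_zero _
      | add y z _ _ hy hz => rw [smul_add, hy, hz, add_zero]
      | smul r y _ hy => rw [smul_comm, hy, smul_zero]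
    obtain ⟨n, hn⟩ := Ideal.exists_pow_le_of_le_radical_of_fg hrad (IsNoetherian.noetherian _)
    exact ⟨n, fun c hc x => Module.mem_annihilator.1 (hn hc) x⟩
  · haveI := GRVal.subsingleton_hom f hdim ⟨U, hU, hiso⟩ hXn
    let c : ((R₀⟦(1 : ℤ)⟧)⟦(-1 : ℤ)⟧) ≅ R₀ := (shiftFunctorCompIsoId (Dual.D A) (1 : ℤ) (-1) (by omega)).app R₀
    let F := DCoh.tildeD (CommRingCat.of A)
    let cs := (F.commShiftIso (-1 : ℤ)).app (Dual.inD A (ResidueField A))
    have h0 : cs.inv ≫ F.map (v⟦(-1 : ℤ)⟧' ≫ c.hom) ≫ e.hom = 0 :=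
      (GRVal.subsingleton_hom f hdim ⟨U, hU, hiso⟩ hXn).elim _ _
    have h1 : F.map (v⟦(-1 : ℤ)⟧' ≫ c.hom) = 0 := by
      rw [← cancel_epi cs.inv, ← cancel_mono e.hom, comp_zero, zero_comp, Category.assoc]
      exact h0
    have h2 : v⟦(-1 : ℤ)⟧' ≫ c.hom = 0 :=
      (KFlatLib.tildeD_map_bijective (R := CommRingCat.of A) _ _).1 (h1.trans (F.map_zero _ _).symm)
    refine (shiftFunctor (Dual.D A) (-1 : ℤ)).map_injective ((cancel_mono c.hom).1 ?_)
    rw [Functor.map_zero, zero_comp]
    exact h2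

end Groth.Agent.GRDual
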