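import Groth.Agent.KFlatLib.Ring.DualizingLocalDuality
import Groth.Agent.KFlatLib.PsiC
import Groth.Agent.GrLib8.ProZ.Local
import Groth.Agent.LC.CanonCM
import Groth.Agent.LC.InjBasic
import Groth.Prelude.Def_Wider

/-!
# Duality for a two dimensional local domain with dualizing module
-/

set_option autoImplicit false
set_option linter.style.haveILetI false
set_option linter.unusedSectionVars false
set_option backward.isDefEq.respectTransparency false
set_option backward.isDefEq.respectTransparency.types false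
set_option maxHeartbeats 800000

universe u

open CategoryTheory CategoryTheory.Limits CategoryTheory.Pretriangulated IsLocalRing

attribute [local instance] HasDerivedCategory.standard

noncomputable section

namespace Groth.Agent.GRDual

open Groth.Agent

variable {A : Type u} [CommRing A] [IsLocalRing A] [IsNoetherianRing A]

section Injective

/-- Functionals into an injective hull of the residue field separate elements. -/
theorem exists_functional_hull {E : Type u} [AddCommGroup E] [Module A E] {g₀ : ResidueField A →ₗ[A] E}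
    (hg : InjHull.IsInjectiveHull g₀) {C : Type*} [AddCommGroup C] [Module A C] {c : C} (hc : c ≠ 0) :
    ∃ g : C →ₗ[A] E, g c ≠ 0 := by
  haveI := hg.isInjective
  let l := LinearMap.toSpanSingleton A C c
  have hk : LinearMap.ker l ≤ LinearMap.ker (Algebra.linearMap A (ResidueField A)) := fun a ha => by
    refine (residue_eq_zero_iff a).2 ?_
    by_contra hna
    refine hc ((IsUnit.smul_eq_zero (notMem_maximalIdeal.1 hna)).1 ?_)
    exact ha
  let g₁ : (A ⧸ LinearMap.ker l) →ₗ[A] E := g₀ ∘ₗ (LinearMap.ker l).liftQ (Algebra.linearMap A (ResidueField A)) hk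
  obtain ⟨g, hgl⟩ := Module.Injective.extension_property A E (A ⧸ LinearMap.ker l) C
    ((LinearMap.ker l).liftQ l le_rfl)
    (by rw [← LinearMap.ker_eq_bot, Submodule.ker_liftQ, Submodule.mkQ_map_self]) g₁
  refine ⟨g, fun h0 => ?_⟩
  have h1 : g (l 1) = g₀ (Algebra.linearMap A (ResidueField A) 1) :=
    LinearMap.congr_fun hgl (Submodule.Quotient.mk 1)
  rw [show l 1 = c from one_smul A c, h0] at h1
  exact one_ne_zero ((map_one (algebraMap A (ResidueField A))).symm.trans
    (hg.injective (h1.symm.trans (map_zero g₀).symm)))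

end Injective

variable {ω : Dual.D A}

/-- Duals of morphisms injective on torsion classes are surjective. -/
theorem surjective_precomp (hω : Dual.IsDualizing A ω) (hn : Dual.IsNormalized A ω)
    {P Q : Dual.D A} (M₂ : Type u) [AddCommGroup M₂] [Module A M₂] [Module.Finite A M₂] (j : ℤ)
    (eQ : (Dual.inD A M₂)⟦j⟧ ≅ Q) (M₁ : Type u) [AddCommGroup M₁] [Module A M₁] [Module.Finite A M₁] (i : ℤ)
    (eP : (Dual.inD A M₁)⟦i⟧ ≅ P) (δ : P ⟶ Q)
    (hδ : ∀ (n : ℕ) (u : Dual.inD A (A ⧸ maximalIdeal A ^ n) ⟶ P), u ≫ δ = 0 → u = 0) (φ : P ⟶ ω) :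
    ∃ ψ : Q ⟶ ω, δ ≫ ψ = φ := by
  obtain ⟨E, _, _, g₀, hg₀⟩ := LC.exists_injectiveHull A (ResidueField A)
  haveI := hg₀.isInjective
  obtain ⟨J, -, hJ⟩ := KFlatLib.exists_trace hω hn hg₀
  have hP : KFlatLib.IsDual J P :=
    KFlatLib.isDual_of_iso eP (KFlatLib.isDual_shift_module hg₀ hω hn J hJ M₁ i)
  have hQ : KFlatLib.IsDual J Q :=
    KFlatLib.isDual_of_iso eQ (KFlatLib.isDual_shift_module hg₀ hω hn J hJ M₂ j)
  let R : Submodule A (P ⟶ ω) := LinearMap.range (Linear.leftComp A ω δ)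
  suffices h : φ ∈ R from h
  by_contra hφ
  obtain ⟨g, hg⟩ := exists_functional_hull hg₀ (c := R.mkQ φ)
    (fun h => hφ ((Submodule.Quotient.mk_eq_zero R).1 h))
  obtain ⟨w, hw⟩ := hP.2 (g ∘ₗ R.mkQ)
  have h0 : KFlatLib.tmMap δ w = 0 := hQ.1 (LinearMap.ext fun ψ => by
    rw [KFlatLib.dualPairing_natural, hw, map_zero, LinearMap.comp_apply, LinearMap.zero_apply]
    exact (congrArg g ((Submodule.Quotient.mk_eq_zero R).2 (⟨ψ, rfl⟩ : δ ≫ ψ ∈ R))).trans (map_zero g))
  obtain ⟨n, u, rfl⟩ := KFlatLib.exists_toTm P w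
  rw [KFlatLib.tmMap_toTm] at h0
  obtain ⟨l, h1, h2, he⟩ := (KFlatLib.toTm_eq_iff Q (u ≫ δ) (0 : Dual.inD A (A ⧸ maximalIdeal A ^ n) ⟶ Q)).1
    (h0.trans (map_zero _).symm)
  rw [comp_zero, ← Category.assoc] at he
  have hu : KFlatLib.toTm P n u = 0 := by
    rw [← KFlatLib.toTm_quotPow P h1, hδ l _ he, map_zero]
  rw [hu, map_zero] at hw
  exact hg (LinearMap.congr_fun hw φ).symm

/-- Scalars killing all functionals kill the module. -/
theorem smul_eq_zero_of_dual (hω : Dual.IsDualizing A ω) (hn : Dual.IsNormalized A ω)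
    (M : Type u) [AddCommGroup M] [Module A M] [Module.Finite A M]
    {n : ℕ} (hM : ∀ a ∈ maximalIdeal A ^ n, ∀ x : M, a • x = 0) (d : A)
    (hd : ∀ χ : Dual.inD A M ⟶ ω, d • χ = 0) (x : M) : d • x = 0 := by
  obtain ⟨E, _, _, g₀, hg₀⟩ := LC.exists_injectiveHull A (ResidueField A)
  haveI := hg₀.isInjective
  obtain ⟨J, -, hJ⟩ := KFlatLib.exists_trace hω hn hg₀
  have hP : KFlatLib.IsDual J (Dual.inD A M) := KFlatLib.isDual_of_iso ((shiftFunctorZero (Dual.D A) ℤ).app _)
    (KFlatLib.isDual_shift_module hg₀ hω hn J hJ M 0)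
  let u := KFlatLib.inDMap (KFlatLib.genPow n hM x)
  have h0 : d • KFlatLib.toTm (Dual.inD A M) n u = 0 := hP.1 (LinearMap.ext fun χ => by
    rw [map_smul, LinearMap.smul_apply, ← map_smul, hd χ, map_zero, map_zero, LinearMap.zero_apply])
  rw [← map_smul] at h0
  obtain ⟨l, h1, h2, he⟩ := (KFlatLib.toTm_eq_iff _ (d • u)
    (0 : Dual.inD A (A ⧸ maximalIdeal A ^ n) ⟶ Dual.inD A M)).1 (h0.trans (map_zero _).symm)
  rw [comp_zero] at he
  let F := DerivedCategory.singleFunctor (ModuleCat.{u} A) 0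
  have hq : F.map (ModuleCat.ofHom (KFlatLib.quotPow (A := A) h1)) ≫
      F.map (d • ModuleCat.ofHom (KFlatLib.genPow n hM x)) = F.map 0 := by
    rw [F.map_smul, F.map_zero]
    exact he
  rw [← F.map_comp] at hq
  have h3 := congrArg (fun z : ModuleCat.of A (A ⧸ maximalIdeal A ^ l) ⟶ ModuleCat.of A M =>
    z.hom (Submodule.Quotient.mk 1)) (F.map_injective hq)
  have h4 : KFlatLib.genPow n hM x (Submodule.Quotient.mk 1) = x := by
    show (1 : A) • x = x
    exact one_smul A x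
  rw [← h4]
  exact h3

/-- The shift by two of the dualizing module is normalized. -/
theorem exists_normalized_two [IsDomain A] (hdim : ringKrullDim A = 2) (ωA : Type u) [AddCommGroup ωA] [Module A ωA]
    (hω : Dual.IsDualizing A (Dual.inD A ωA)) :
    Dual.IsDualizing A ((Dual.inD A ωA)⟦(2 : ℤ)⟧) ∧ Dual.IsNormalized A ((Dual.inD A ωA)⟦(2 : ℤ)⟧) := by
  obtain ⟨n, hn, hdual, hnorm⟩ := GrLib8.ProZ.exists_normalized hω
  obtain ⟨n', hn', hcov, hmono, -⟩ := KFlatLib.exists_extDegree hω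
  have hnn : ∀ P, n P = n' P := fun P => (hn' P (n P)).1 ((hn P (n P)).2 rfl)
  let bot : PrimeSpectrum A := ⟨⊥, Ideal.isPrime_bot⟩
  have h0 : n' bot = 0 := by
    by_contra hne
    haveI := (hn' bot (n' bot)).2 rfl
    haveI : Subsingleton (Dual.HD A (Dual.inD A ωA) (n' bot)) := by
      refine ModuleCat.subsingleton_of_isZero ?_
      rcases lt_or_gt_of_ne hne with h | h
      · exact DerivedCategory.isZero_of_isGE (Dual.inD A ωA) 0 _ h
      · exact DerivedCategory.isZero_of_isLE (Dual.inD A ωA) 0 _ h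
    obtain ⟨e⟩ := KFlatLib.exists_homRingLEquiv (Dual.inD A ωA) (n' bot)
    haveI : Subsingleton (Dual.inD A A ⟶ (Dual.inD A ωA)⟦n' bot⟧) := e.toEquiv.subsingleton
    let e₂ : Dual.inD A (A ⧸ bot.asIdeal) ≅ Dual.inD A A :=
      (DerivedCategory.singleFunctor (ModuleCat.{u} A) 0).mapIso (Submodule.quotEquivOfEqBot _ rfl).toModuleIso
    haveI : Subsingleton (Dual.inD A (A ⧸ bot.asIdeal) ⟶ (Dual.inD A ωA)⟦n' bot⟧) :=
      (e₂.homFromEquiv (Z := (Dual.inD A ωA)⟦n' bot⟧)).subsingleton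
    exact not_subsingleton (LocalizedModule bot.asIdeal.primeCompl
      (Dual.inD A (A ⧸ bot.asIdeal) ⟶ (Dual.inD A ωA)⟦n' bot⟧))
      (LocalizedModule.subsingleton_iff.2 fun f => ⟨1, one_mem _, Subsingleton.elim _ _⟩)
  obtain ⟨e, he, he'⟩ := KFlatLib.ringKrullDim_quotient_eq hcov hmono bot
  have he2 : e = 2 := by
    have h2 : ringKrullDim (A ⧸ bot.asIdeal) = ringKrullDim A :=
      ringKrullDim_eq_of_ringEquiv (RingEquiv.quotientBot A)
    rw [h2, hdim] at he
    exact_mod_cast he.symm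
  have h2 : n (closedPoint A) = 2 := by
    rw [hnn]
    omega
  rw [h2] at hdual hnorm
  exact ⟨hdual, hnorm⟩

section Model

variable {ωA : Type u} [AddCommGroup ωA] [Module A ωA]

/-- No maps `A[1] ⟶ ω[2]`. -/
theorem eq_zero_shift_one {P : Dual.D A} (e : (Dual.inD A A)⟦(1 : ℤ)⟧ ≅ P)
    (φ : P ⟶ (Dual.inD A ωA)⟦(2 : ℤ)⟧) : φ = 0 := by
  obtain ⟨e'⟩ := KFlatLib.exists_homShiftLEquiv (Dual.inD A A) ((Dual.inD A ωA)⟦(2 : ℤ)⟧) 1
  obtain ⟨e''⟩ := KFlatLib.exists_homRingLEquiv ((Dual.inD A ωA)⟦(2 : ℤ)⟧) (-1 : ℤ)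
  haveI : ((Dual.inD A ωA)⟦(2 : ℤ)⟧).IsLE (-2) :=
    DerivedCategory.TStructure.t.isLE_shift (Dual.inD A ωA) 0 2 (-2) (by omega)
  haveI : Subsingleton (Dual.HD A ((Dual.inD A ωA)⟦(2 : ℤ)⟧) (-1)) :=
    ModuleCat.subsingleton_of_isZero (DerivedCategory.isZero_of_isLE _ (-2) (-1) (by omega))
  haveI := e''.toEquiv.subsingleton
  haveI := e'.toEquiv.subsingleton
  rw [← cancel_epi e.hom, comp_zero]
  exact Subsingleton.elim _ _

variable {R₀ : Dual.D A}

/-- Maps from objects of finite length to the shift of the model vanish. -/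
theorem eq_zero_of_isFiniteLength (hκ : ∀ v : Dual.inD A (ResidueField A) ⟶ R₀, v = 0)
    (N : Type u) [AddCommGroup N] [Module A N] (hN : IsFiniteLength A N) :
    ∀ v : Dual.inD A N ⟶ R₀, v = 0 := by
  induction hN with
  | @of_subsingleton M _ _ _ =>
    intro v
    exact ((DerivedCategory.singleFunctor (ModuleCat.{u} A) 0).map_isZero
      (ModuleCat.isZero_of_subsingleton (ModuleCat.of A M))).eq_of_src _ _
  | @of_simple_quotient M _ _ S _ _ ih =>
    intro v
    obtain ⟨w, hS⟩ := KFlatLib.exists_ses_of_exact (Submodule.injective_subtype S) (Submodule.mkQ_surjective S)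
      (LinearMap.exact_iff.2 (by rw [Submodule.ker_mkQ, Submodule.range_subtype]))
    obtain ⟨χ, hχ⟩ := Triangle.yoneda_exact₂ _ hS.singleTriangle_distinguished v (ih _)
    obtain ⟨I, hI, ⟨e⟩⟩ := isSimpleModule_iff_quot_maximal.1 (inferInstance : IsSimpleModule A (M ⧸ S))
    obtain rfl := IsLocalRing.eq_maximalIdeal hI
    let e' : Dual.inD A (M ⧸ S) ≅ Dual.inD A (ResidueField A) :=
      (DerivedCategory.singleFunctor (ModuleCat.{u} A) 0).mapIso e.toModuleIso
    rw [hχ, show χ = 0 from (cancel_epi e'.inv).1 ((hκ _).trans comp_zero.symm), comp_zero]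

end Model

end Groth.Agent.GRDual
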