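import Groth.Agent.RelPC17.DimOne
import Groth.Agent.KFlatLib.Scheme.Tensor
import Groth.Agent.H23.PicMul
import Groth.Agent.H23.LocFinCoprod

/-!
# Vanishing of `H¹` of twists by globally generated modules
-/

set_option autoImplicit false
set_option linter.style.haveILetI false
set_option linter.unusedSectionVars false
set_option backward.isDefEq.respectTransparency false
set_option backward.isDefEq.respectTransparency.types false
set_option maxHeartbeats 800000

universe u

open CategoryTheory CategoryTheory.Limits AlgebraicGeometry TopologicalSpace Opposite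

noncomputable section

namespace Groth.Agent.GRDual

open Groth.Agent

variable {X Y : Scheme.{u}} (f : X ⟶ Y) [IsProper f] [IsAffine Y]
  (hd : ∀ y : Y, topologicalKrullDim ↥(f.fiber y) ≤ (1 : ℕ))

include hd in
/-- With fibres of dimension at most one, twisting by a globally generated module preserves `H¹ = 0`. -/
theorem subsingleton_HH_one_tensor {G L : X.Modules} (hG : Coh.IsQCoh G) (hL : Coh.IsQCoh L)
    (hgg : Curv2.IsGloballyGenerated L) (h : Subsingleton (Coh.HH X G 1)) :
    Subsingleton (Coh.HH X (CohB1.tensorMod G L) 1) := by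
  obtain ⟨ι, p, hp⟩ := hgg
  haveI : Epi p := hp
  let p' : (∐ fun _ : ι => Coh.structureModule X) ⟶ L := p
  haveI : Epi p' := hp
  let T := DCoh.tensorBi.obj G
  haveI : PreservesColimitsOfSize.{u, u} T := ⟨fun {K} _ => inferInstance⟩
  haveI : PreservesColimitsOfShape WalkingSpan T := inferInstance
  haveI : Epi (T.map p') := inferInstance
  haveI : CompactSpace X := QuasiCompact.compactSpace_of_compactSpace f
  haveI : QuasiSeparatedSpace X := quasiSeparatedSpace_of_quasiSeparated f
  let u : T.obj (Coh.structureModule X) ≅ G := (H23.PicMul.unit G).some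
  let a : (∐ fun _ : ι => G) ≅ T.obj (∐ fun _ : ι => Coh.structureModule X) :=
    (Sigma.mapIso fun _ => u.symm) ≪≫ (PreservesCoproduct.iso T _).symm
  haveI := RelPC17.DimOne.subsingleton_coprod (fun _ : ι => G) 1 fun _ => h
  haveI : Epi (a.hom ≫ T.map p') := epi_comp _ _
  exact (RelPC17.DimOne.hmap_surjective f hd (a.hom ≫ T.map p') (H23.LocFinCoprod.isQCoh_coprod (fun _ => hG))
    (KFlatLib.isQCoh_tensor hG hL)).subsingleton

include hd in
/-- All twists by powers. -/
theorem subsingleton_HH_one_tensorPow {G L : X.Modules} (hG : Coh.IsQCoh G) (hL : Coh.IsQCoh L)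
    (hgg : Curv2.IsGloballyGenerated L) (h : Subsingleton (Coh.HH X G 1)) :
    ∀ n : ℕ, Subsingleton (Coh.HH X (CohB1.tensorMod G (CohB1.tensorPow L n)) 1)
  | 0 => QCoh.subsingleton_HH_of_iso (H23.PicMul.unit G).some.symm 1 h
  | n + 1 => by
    have hq : ∀ m, Coh.IsQCoh (CohB1.tensorPow L m) := fun m => by
      induction m with
      | zero => exact QCoh.isQCoh_structureModule
      | succ m ih => exact KFlatLib.isQCoh_tensor ih hL
    exact QCoh.subsingleton_HH_of_iso (H23.PicMul.assoc G (CohB1.tensorPow L n) L).some 1
      (subsingleton_HH_one_tensor f hd (KFlatLib.isQCoh_tensor hG (hq n)) hL hgg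
        (subsingleton_HH_one_tensorPow hG hL hgg h n))

end Groth.Agent.GRDual
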